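/-
The critical subgroups of the odd cores of a solvable group with trivial `2`-core: a `2`-element
centralising their centres and trivial modulo the radical of every weight is trivial.
-/
import Cfsg.Agent.Lib.FpfHeight.PlaneExponent

set_option autoImplicit false
set_option linter.style.haveILetI false

namespace Cfsg.Agent.Lib.TwoLengthExp

open Cfsg Cfsg.Agent.Lib Cfsg.Agent.Lib.FpfHeight Cfsg.Agent.Lib.FpfHeight.PlaneExponent
open scoped commutatorElement

universe u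

variable {H : Type u} [Group H] [Finite H] {k : Type*} [Field k] [IsAlgClosed k] [CharP k 2]
variable {M : Type*} [AddCommGroup M] [Module k M] [FiniteDimensional k M]

/-- The odd primes. -/
abbrev Idx : Type := {q : ℕ // q.Prime ∧ q ≠ 2}

/-- Normal class-two subgroups, one for each odd prime, detecting the `2`-elements. -/
structure Frame (ρ : H →* Module.End k M) where
  P : Idx → Subgroup H
  Z : Idx → Subgroup H
  normalP : ∀ i, (P i).Normal
  normalZ : ∀ i, (Z i).Normal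
  central : ∀ i, PlaneTwo.Central (P i) (Z i)
  isPGroup : ∀ i : Idx, IsPGroup (i : ℕ) (P i)
  pow_mem : ∀ i : Idx, ∀ p ∈ P i, p ^ (i : ℕ) ∈ Z i
  abelian : ∀ i, ∀ a ∈ Z i, ∀ b ∈ Z i, a * b = b * a
  odd : ∀ i, Odd (Nat.card (Z i))
  faithful : ∀ g : H, (∃ a : ℕ, g ^ 2 ^ a = 1) → (∀ i : Idx, ∀ z ∈ Z i, g * z = z * g) →
    (∀ i, ∀ (lam : Z i →* k) (w : M), w ≠ 0 → (∀ z : Z i, ρ (z : H) w = lam z • w) →
      ∀ p : P i, haveI := normalP i
        MulAut.conjNormal g p * p⁻¹ ∈ PlaneTwo.radP (central i) lam) → g = 1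

theorem exists_frame [Group.IsSolvable H] (hO : pCore 2 H = ⊥) (ρ : H →* Module.End k M)
    (hρ : Function.Injective ρ) : Nonempty (Frame ρ) := by
  classical
  haveI : Fact (Nat.Prime 2) := ⟨Nat.prime_two⟩
  haveI : ∀ i : Idx, Fact (i : ℕ).Prime := fun i => ⟨i.2.1⟩
  have hcrit : ∀ i : Idx, ∃ C : Subgroup (pCore (i : ℕ) H), C.Characteristic ∧
      Subgroup.centralizer (C : Set (pCore (i : ℕ) H)) ≤ C ∧
      (∀ y ∈ C, y ^ (i : ℕ) ∈ C ⊓ Subgroup.centralizer (C : Set (pCore (i : ℕ) H))) ∧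
      ∀ y ∈ C, ∀ g : pCore (i : ℕ) H,
        ⁅y, g⁆ ∈ C ⊓ Subgroup.centralizer (C : Set (pCore (i : ℕ) H)) := fun i =>
    Transfer.Critical.exists_critical (Cores.pCore_isPGroup (i : ℕ))
  choose C hCchar hCcen hCpow hCcomm using hcrit
  let P : Idx → Subgroup H := fun i => (C i).map (pCore (i : ℕ) H).subtype
  let Z : Idx → Subgroup H := fun i => P i ⊓ Subgroup.centralizer (P i : Set H)
  haveI hPn : ∀ i : Idx, (P i).Normal := fun i => by
    haveI := hCchar i
    exact ConjAct.normal_of_characteristic_of_normal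
  haveI hZn : ∀ i : Idx, (Z i).Normal := fun i => Subgroup.normal_inf_normal _ _
  have hPle : ∀ i : Idx, P i ≤ pCore (i : ℕ) H := fun i => Subgroup.map_subtype_le _
  have hPp : ∀ i : Idx, IsPGroup (i : ℕ) (P i) := fun i => (Cores.pCore_isPGroup _).to_le (hPle i)
  have hZmem : ∀ (i : Idx) (y : pCore (i : ℕ) H),
      y ∈ C i ⊓ Subgroup.centralizer (C i : Set (pCore (i : ℕ) H)) → (y : H) ∈ Z i := by
    intro i y hy
    refine ⟨⟨y, hy.1, rfl⟩, Subgroup.mem_centralizer_iff.mpr ?_⟩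
    rintro _ ⟨v, hv, rfl⟩
    exact congrArg Subtype.val (Subgroup.mem_centralizer_iff.mp hy.2 v hv)
  have hcen : ∀ i : Idx, ∀ z ∈ Z i, ∀ v ∈ P i, z * v = v * z := fun i z hz v hv =>
    (Subgroup.mem_centralizer_iff.mp hz.2 v hv).symm
  have hc : ∀ i : Idx, PlaneTwo.Central (P i) (Z i) := fun i =>
    { le := inf_le_left
      comm := by
        rintro _ ⟨v, hv, rfl⟩ _ ⟨v', hv', rfl⟩
        exact hZmem i _ (hCcomm i v hv v')
      cen := hcen i }
  have hPexp : ∀ i : Idx, ∀ p ∈ P i, p ^ (i : ℕ) ∈ Z i := by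
    rintro i _ ⟨v, hv, rfl⟩
    exact hZmem i _ (hCpow i v hv)
  have hoddP : ∀ i : Idx, Odd (Nat.card (P i)) := fun i => by
    obtain ⟨n, hn⟩ := IsPGroup.iff_card.mp (hPp i)
    rw [hn]; exact (i.2.1.odd_of_ne_two i.2.2).pow
  have hoddZ : ∀ i : Idx, Odd (Nat.card (Z i)) := fun i =>
    (hoddP i).of_dvd_nat (Subgroup.card_dvd_of_le inf_le_left)
  have habelZ : ∀ i : Idx, ∀ a ∈ Z i, ∀ b ∈ Z i, a * b = b * a := fun i a ha b hb => hcen i a ha b hb.1
  refine ⟨⟨P, Z, hPn, hZn, hc, hPp, hPexp, habelZ, hoddZ, ?_⟩⟩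
  rintro g ⟨a, hga⟩ hgZ htriv
  have hP1 : ∀ i : Idx, ∀ v ∈ P i, g * v = v * g := by
    intro i v hv
    set d : P i := MulAut.conjNormal g ⟨v, hv⟩ * (⟨v, hv⟩ : P i)⁻¹ with hd
    have hdv : (d : H) = g * v * g⁻¹ * v⁻¹ := by
      rw [hd, Subgroup.coe_mul, MulAut.conjNormal_apply, Subgroup.coe_inv]
    have hdZ : (d : H) ∈ Z i := by
      refine ⟨d.2, Subgroup.mem_centralizer_iff.mpr fun v' hv' => ?_⟩
      by_contra hne
      set z := PlaneTwo.com (hc i) ⟨v', hv'⟩ d with hz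
      have hz1 : z ≠ 1 := fun h => hne (by
        have h' : (v' * (d : H) * v'⁻¹ * (d : H)⁻¹) = 1 := congrArg Subtype.val h
        exact mul_inv_eq_iff_eq_mul.mp (mul_inv_eq_one.mp h'))
      obtain ⟨w, lam, hw0, hw, hlamz⟩ := exists_weight ρ hρ (hoddZ i) (habelZ i) hz1
      exact hlamz (htriv i lam w hw0 hw ⟨v, hv⟩ ⟨v', hv'⟩)
    rw [hdv] at hdZ
    obtain ⟨b, hb⟩ := (hPp i).to_le inf_le_left ⟨_, hdZ⟩
    have h1 := eq_one_of_fixed_conj (h := g) (x := v)
      (by rw [hgZ i _ hdZ, mul_inv_cancel_right])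
      (by group) hga (congrArg Subtype.val hb)
      (Nat.Coprime.pow _ _ ((Nat.coprime_primes Nat.prime_two i.2.1).mpr (Ne.symm i.2.2)))
    exact mul_inv_eq_iff_eq_mul.mp (mul_inv_eq_one.mp h1)
  have hcore : ∀ i : Idx, ∀ v ∈ pCore (i : ℕ) H, v * g = g * v := by
    intro i v hv
    set d := g * v * g⁻¹ * v⁻¹ with hd
    have hvC : ⟨d, by
        rw [hd]; exact mul_mem ((PSolvable.pCore_normal' (p := (i : ℕ))).conj_mem v hv g) (inv_mem hv)⟩ ∈
        Subgroup.centralizer (C i : Set (pCore (i : ℕ) H)) := by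
      rw [Subgroup.mem_centralizer_iff]
      intro u hu
      refine Subtype.ext ?_
      have hu' : (u : H) ∈ P i := ⟨u, hu, rfl⟩
      have hvu : v⁻¹ * u * v ∈ P i := by
        simpa using (hPn i).conj_mem _ hu' v⁻¹
      have h1 := hP1 i _ hu'
      have h2 := hP1 i _ hvu
      change (u : H) * d = d * u
      calc (u : H) * d = (u * g) * v * g⁻¹ * v⁻¹ := by rw [hd]; group
        _ = (g * u) * v * g⁻¹ * v⁻¹ := by rw [h1]
        _ = g * v * ((v⁻¹ * u * v) * g⁻¹) * v⁻¹ := by group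
        _ = g * v * (g⁻¹ * (v⁻¹ * u * v)) * v⁻¹ := by
          rw [show (v⁻¹ * u * v) * g⁻¹ = g⁻¹ * (v⁻¹ * u * v) by
            rw [eq_inv_mul_iff_mul_eq, ← mul_assoc, h2, mul_inv_cancel_right]]
        _ = d * u := by rw [hd]; group
    have hdP : d ∈ P i := ⟨_, hCcen i hvC, rfl⟩
    obtain ⟨b, hb⟩ := hPp i ⟨d, hdP⟩
    have h1 := eq_one_of_fixed_conj (h := g) (x := v) (z := d)
      (by rw [hP1 i d hdP, mul_inv_cancel_right]) (by rw [hd]; group) hga
      (congrArg Subtype.val hb)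
      (Nat.Coprime.pow _ _ ((Nat.coprime_primes Nat.prime_two i.2.1).mpr (Ne.symm i.2.2)))
    exact (mul_inv_eq_iff_eq_mul.mp (mul_inv_eq_one.mp h1)).symm
  have hgF : g ∈ Subgroup.centralizer (fittingSubgroup H : Set H) := by
    have hle : fittingSubgroup H ≤ Subgroup.centralizer {g} := by
      rw [Cores.fittingSubgroup_eq_iSup_pCore]
      refine iSup_le fun q => ?_
      by_cases hq : (q : ℕ) = 2
      · rw [hq, hO]; exact bot_le
      · intro v hv
        rw [Subgroup.mem_centralizer_singleton_iff]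
        exact (hcore ⟨q, q.2, hq⟩ v hv)
    rw [Subgroup.mem_centralizer_iff]
    intro v hv
    exact Subgroup.mem_centralizer_singleton_iff.mp (hle hv)
  have hodd := InvolutionConj.centralizer_pPrimeCore_le hO
  have hF : fittingSubgroup H ≤ pPrimeCore 2 H := by
    rw [Cores.fittingSubgroup_eq_iSup_pCore]
    refine iSup_le fun q => ?_
    haveI : Fact (q : ℕ).Prime := ⟨q.2⟩
    by_cases hq : (q : ℕ) = 2
    · rw [hq, hO]; exact bot_le
    refine Cores.le_pPrimeCore (hN := inferInstance) ?_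
    obtain ⟨b, hb⟩ := IsPGroup.iff_card.mp (Cores.pCore_isPGroup (G := H) (q : ℕ))
    rw [hb]
    exact ((Nat.coprime_primes q.2 Nat.prime_two).mpr hq).pow_left b
  have hgO : g ∈ pPrimeCore 2 H := hF (Cores.centralizer_fittingSubgroup_le hgF)
  have h1 : (⟨g, hgO⟩ : pPrimeCore 2 H) ^ Nat.card (pPrimeCore 2 H) = 1 := pow_card_eq_one'
  exact (InvolutionConj.eq_one_of_two_pow hga (congrArg Subtype.val h1)
    (Nat.coprime_two_right.mp PSolvable.card_pPrimeCore_coprime))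

end Cfsg.Agent.Lib.TwoLengthExp
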