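/-
Plane elements: isometries `a` of a nondegenerate alternating space of odd exponent whose displacement
space has order at most `q ^ 2` and on which `a * a` is `-1`.
-/
import Mathlib

set_option autoImplicit false
set_option linter.unusedSectionVars false
set_option linter.style.haveILetI false

namespace Cfsg.Agent.Lib.TwoLengthExp

variable {Γ U V : Type*} [Group Γ] [Finite Γ] [AddCommGroup U] [Finite U] [AddCommGroup V]
  [DistribMulAction Γ U]

/-- An invariant nondegenerate alternating pairing on a group of odd prime exponent. -/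
structure Form (Γ U V : Type*) [Group Γ] [AddCommGroup U] [AddCommGroup V]
    [DistribMulAction Γ U] (q : ℕ) where
  f : U →+ U →+ V
  prime : q.Prime
  ne_two : q ≠ 2
  alt : ∀ x, f x x = 0
  nondeg : ∀ x, (∀ y, f x y = 0) → x = 0
  inv : ∀ (a : Γ) (x y : U), f (a • x) (a • y) = f x y
  expU : ∀ x : U, q • x = 0

/-- The displacement subgroup. -/
def plane (U : Type*) [AddCommGroup U] [DistribMulAction Γ U] (a : Γ) : AddSubgroup U :=
  (DistribSMul.toAddMonoidHom U a - AddMonoidHom.id U).range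

theorem mem_plane {a : Γ} {x : U} : x ∈ plane U a ↔ ∃ y : U, a • y - y = x := Iff.rfl

theorem sub_mem_plane (a : Γ) (y : U) : a • y - y ∈ (plane U a) := ⟨y, rfl⟩

theorem smul_mem_plane_conj (h a : Γ) {x : U} :
    h • x ∈ plane U (h * a * h⁻¹) ↔ x ∈ plane U a := by
  constructor
  · rintro ⟨y, hy⟩
    refine ⟨h⁻¹ • y, ?_⟩
    have h' : (h * a * h⁻¹) • y - y = h • x := hy
    show a • h⁻¹ • y - h⁻¹ • y = x
    rw [← inv_smul_smul h (a • h⁻¹ • y), ← smul_sub, ← mul_smul a, ← mul_smul h, ← mul_assoc, h',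
      inv_smul_smul]
  · rintro ⟨y, hy⟩
    refine ⟨h • y, ?_⟩
    have h' : a • y - y = x := hy
    show (h * a * h⁻¹) • h • y - h • y = h • x
    rw [mul_smul, inv_smul_smul, mul_smul, ← smul_sub, h']

/-- A plane element: its square is `-1` on its small nontrivial displacement subgroup. -/
structure IsPlane (q : ℕ) (U : Type*) [AddCommGroup U] [DistribMulAction Γ U] (a : Γ) : Prop where
  quad : ∀ x ∈ (plane U a), a • a • x = -x
  card_le : Nat.card (plane U a) ≤ q ^ 2
  ne : (plane U a) ≠ ⊥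

theorem IsPlane.conj {q : ℕ} {a : Γ} (h : Γ) (ha : IsPlane q U a) :
    IsPlane q U (h * a * h⁻¹) where
  quad x hx := by
    obtain ⟨x', rfl⟩ : ∃ x', h • x' = x := ⟨h⁻¹ • x, smul_inv_smul h x⟩
    simp only [mul_smul, inv_smul_smul]
    rw [ha.quad x' ((smul_mem_plane_conj h a).mp hx), smul_neg]
  card_le := by
    refine le_of_eq_of_le (Nat.card_congr ?_) ha.card_le
    exact
      { toFun := fun x => ⟨h⁻¹ • x.1, (smul_mem_plane_conj h a).mp (by
          rw [smul_inv_smul]; exact x.2)⟩
        invFun := fun x => ⟨h • x.1, (smul_mem_plane_conj h a).mpr x.2⟩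
        left_inv := fun x => Subtype.ext (smul_inv_smul h _)
        right_inv := fun x => Subtype.ext (inv_smul_smul h _) }
  ne := fun hbot => ha.ne (by
    rw [eq_bot_iff]
    intro x hx
    have hmem := (smul_mem_plane_conj h a).mpr hx
    rw [hbot, AddSubgroup.mem_bot] at hmem
    have := congrArg (h⁻¹ • ·) hmem
    simpa using this)

variable {q : ℕ} (F : Form Γ U V q)

include F in
theorem Form.eq_zero_of_add_self {x : U} (h : x + x = 0) : x = 0 := by
  obtain ⟨m, hm⟩ := F.prime.odd_of_ne_two F.ne_two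
  have hx := F.expU x
  rw [hm, add_nsmul, mul_comm, mul_nsmul', two_nsmul, h, nsmul_zero, zero_add, one_nsmul] at hx
  exact hx

include F in
theorem Form.eq_zero_of_eq_neg {x : U} (h : x = -x) : x = 0 :=
  F.eq_zero_of_add_self (by nth_rw 2 [h]; exact add_neg_cancel x)

theorem Form.skew (x y : U) : F.f x y = -(F.f y x) := by
  have h := F.alt (x + y)
  simp only [map_add, AddMonoidHom.add_apply, F.alt, add_zero, zero_add] at h
  exact eq_neg_of_add_eq_zero_right h

/-- Two subgroups are orthogonal. -/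
def Form.Orth (A B : AddSubgroup U) : Prop := ∀ x ∈ A, ∀ y ∈ B, F.f x y = 0

theorem Form.Orth.symm {A B : AddSubgroup U} {F : Form Γ U V q} (h : F.Orth A B) : F.Orth B A :=
  fun x hx y hy => by rw [F.skew, h y hy x hx, neg_zero]

section
variable {F} {a : Γ} (ha : IsPlane q U a)
include ha

theorem IsPlane.smul_mem {x : U} (hx : x ∈ plane U a) : a • x ∈ plane U a := by
  obtain ⟨y, hy⟩ := hx
  exact ⟨a • y, by rw [← hy]; show a • a • y - a • y = a • (a • y - y); rw [smul_sub]⟩

include F

theorem IsPlane.eq_zero_of_fixed {x : U} (hx : x ∈ plane U a) (h : a • x = x) : x = 0 :=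
  F.eq_zero_of_eq_neg (by have h2 := ha.quad x hx; rwa [h, h] at h2)

theorem IsPlane.decomp (x : U) : ∃ w ∈ plane U a, a • (x - w) = x - w := by
  let g : (plane U a) → (plane U a) :=
    fun w => ⟨a • w.1 - w.1, sub_mem (ha.smul_mem w.2) w.2⟩
  have hg : Function.Injective g := by
    intro v w hvw
    have h : a • v.1 - v.1 = a • w.1 - w.1 := congrArg Subtype.val hvw
    refine Subtype.ext (sub_eq_zero.mp
      (ha.eq_zero_of_fixed (F := F) (sub_mem v.2 w.2) ?_))
    rw [smul_sub, ← sub_eq_zero]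
    rw [← sub_eq_zero] at h
    rw [← h]
    abel
  obtain ⟨w, hw⟩ := (Finite.injective_iff_surjective.mp hg) ⟨a • x - x, sub_mem_plane a x⟩
  refine ⟨w.1, w.2, ?_⟩
  have h : a • w.1 - w.1 = a • x - x := congrArg Subtype.val hw
  rw [smul_sub, sub_eq_sub_iff_sub_eq_sub]
  exact h.symm

theorem IsPlane.orth_fixed {w c : U} (hw : w ∈ plane U a) (hc : a • c = c) : F.f w c = 0 := by
  obtain ⟨y, rfl⟩ := mem_plane.mp hw
  rw [map_sub, AddMonoidHom.sub_apply]
  nth_rw 1 [← hc]
  rw [F.inv, sub_self]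

theorem IsPlane.nondeg {w : U} (hw : w ∈ plane U a) (h : ∀ x ∈ plane U a, F.f w x = 0) : w = 0 := by
  refine F.nondeg w fun y => ?_
  obtain ⟨v, hv, hfix⟩ := ha.decomp (F := F) y
  rw [show y = v + (y - v) by abel, map_add, h v hv, ha.orth_fixed hw hfix, add_zero]

theorem IsPlane.fixed_of_orth {x : U} (h : ∀ w ∈ plane U a, F.f w x = 0) : a • x = x := by
  obtain ⟨v, hv, hfix⟩ := ha.decomp (F := F) x
  have hv0 : v = 0 := ha.nondeg (F := F) hv fun w hw => by
    have h1 := h w hw
    rw [show x = v + (x - v) by abel, map_add, ha.orth_fixed hw hfix, add_zero] at h1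
    rw [F.skew, h1, neg_zero]
  rwa [hv0, sub_zero] at hfix

theorem IsPlane.sq_smul (x : U) :
    ∃ w ∈ plane U a, a • (x - w) = x - w ∧ a • a • x = -w + (x - w) := by
  obtain ⟨v, hv, hfix⟩ := ha.decomp (F := F) x
  refine ⟨v, hv, hfix, ?_⟩
  nth_rw 1 [show x = v + (x - v) by abel]
  rw [smul_add, hfix, smul_add, hfix, ha.quad v hv]

theorem IsPlane.card_eq : Nat.card (plane U a) = q ^ 2 := by
  haveI := Fact.mk F.prime
  obtain ⟨n, hn⟩ : ∃ n, Nat.card (Multiplicative (plane U a)) = q ^ n :=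
    IsPGroup.iff_card.mp fun x => ⟨1, by
      rw [pow_one]
      exact Subtype.ext (F.expU (Multiplicative.toAdd x).1)⟩
  rw [Nat.card_congr Multiplicative.toAdd] at hn
  have h2 : n ≤ 2 := (Nat.pow_le_pow_iff_right F.prime.one_lt).mp (hn ▸ ha.card_le)
  interval_cases n
  · exact absurd (AddSubgroup.card_eq_one.mp (by simpa using hn)) ha.ne
  · exfalso
    rw [pow_one] at hn
    haveI : IsAddCyclic (plane U a) := isAddCyclic_of_prime_card hn
    obtain ⟨g, hg⟩ := IsAddCyclic.exists_generator (α := (plane U a))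
    refine ha.ne (eq_bot_iff.mpr fun x hx => AddSubgroup.mem_bot.mpr ?_)
    refine ha.nondeg (F := F) hx fun y hy => ?_
    obtain ⟨i, hi⟩ := hg ⟨x, hx⟩
    obtain ⟨j, hj⟩ := hg ⟨y, hy⟩
    have hi' : i • g.1 = x := congrArg Subtype.val hi
    have hj' : j • g.1 = y := congrArg Subtype.val hj
    rw [← hi', ← hj', map_zsmul, map_zsmul, AddMonoidHom.zsmul_apply, F.alt, smul_zero, smul_zero]
  · exact hn

/-- An element fixing a nonzero vector of an invariant plane is unipotent there. -/
theorem IsPlane.sub_fixed {g : Γ} (hg : ∀ x ∈ plane U a, g • x ∈ plane U a) {f₀ : U}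
    (hf : f₀ ∈ plane U a) (hf0 : f₀ ≠ 0) (hfix : g • f₀ = f₀) {w : U} (hw : w ∈ plane U a) :
    g • (g • w - w) = g • w - w := by
  haveI := Fact.mk F.prime
  let χ : (plane U a) →+ V := (F.f.flip f₀).comp (plane U a).subtype
  have hcard := ha.card_eq (F := F)
  have hK : AddSubgroup.zmultiples (⟨f₀, hf⟩ : (plane U a)) = χ.ker := by
    have hle : AddSubgroup.zmultiples (⟨f₀, hf⟩ : (plane U a)) ≤ χ.ker :=
      AddSubgroup.zmultiples_le_of_mem (F.alt f₀)
    have hord : Nat.card (AddSubgroup.zmultiples (⟨f₀, hf⟩ : (plane U a))) = q := by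
      rw [Nat.card_zmultiples]
      exact addOrderOf_eq_prime (Subtype.ext (F.expU f₀)) (fun h => hf0 (congrArg Subtype.val h))
    have hne : χ.ker ≠ ⊤ := fun htop => hf0 (ha.nondeg (F := F) hf fun x hx => by
      have hmem : (⟨x, hx⟩ : (plane U a)) ∈ χ.ker := htop.symm ▸ AddSubgroup.mem_top _
      have h : F.f x f₀ = 0 := AddMonoidHom.mem_ker.mp hmem
      rw [F.skew, h, neg_zero])
    have hdvd : Nat.card χ.ker ∣ q ^ 2 := hcard ▸ AddSubgroup.card_addSubgroup_dvd_card _
    obtain ⟨n, hn2, hn⟩ := (Nat.dvd_prime_pow F.prime).mp hdvd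
    have hnlt : n ≠ 2 := by
      rintro rfl
      exact hne (AddSubgroup.eq_top_of_card_eq _ (hn.trans hcard.symm))
    refine AddSubgroup.eq_of_le_of_card_ge hle ?_
    rw [hord, hn]
    exact (Nat.pow_le_pow_right F.prime.pos (show n ≤ 1 by omega)).trans_eq (pow_one q)
  have hmem : (⟨g • w - w, sub_mem (hg w hw) hw⟩ : (plane U a)) ∈ χ.ker := by
    rw [AddMonoidHom.mem_ker]
    show F.f (g • w - w) f₀ = 0
    rw [map_sub, AddMonoidHom.sub_apply]
    nth_rw 1 [← hfix]
    rw [F.inv, sub_self]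
  rw [← hK] at hmem
  obtain ⟨i, hi⟩ := hmem
  have hi' : i • f₀ = g • w - w := congrArg Subtype.val hi
  rw [← hi']
  show DistribSMul.toAddMonoidHom U g (i • f₀) = i • f₀
  rw [map_zsmul]
  exact congrArg (i • ·) hfix

/-- An element squaring to `1` on an invariant plane is a sign there. -/
theorem IsPlane.scalar_of_sq {g : Γ} (hg : ∀ x ∈ plane U a, g • x ∈ plane U a)
    (h2 : ∀ x ∈ plane U a, g • g • x = x) :
    (∀ x ∈ plane U a, g • x = x) ∨ (∀ x ∈ plane U a, g • x = -x) := by
  by_cases h : ∃ f₀ ∈ (plane U a), f₀ ≠ 0 ∧ g • f₀ = f₀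
  · obtain ⟨f₀, hf, hf0, hfix⟩ := h
    refine Or.inl fun w hw => ?_
    have h1 := ha.sub_fixed (F := F) hg hf hf0 hfix hw
    rw [smul_sub, h2 w hw] at h1
    exact sub_eq_zero.mp (F.eq_zero_of_eq_neg (x := g • w - w) (by
      nth_rw 1 [← h1]
      abel))
  · refine Or.inr fun w hw => ?_
    by_contra hne
    refine h ⟨g • w + w, add_mem (hg w hw) hw, fun h0 => hne (eq_neg_of_add_eq_zero_left h0), ?_⟩
    rw [smul_add, h2 w hw, add_comm]

end

/-- An element of a `2`-group that does not generate it lies with its conjugates in a smaller one. -/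
theorem exists_lt_conj (L : Subgroup Γ) (hL : IsPGroup 2 L) {a b : Γ} (haL : a ∈ L) (hbL : b ∈ L)
    (hne : b * a * b⁻¹ ≠ a) :
    ∃ M : Subgroup Γ, Nat.card M < Nat.card L ∧ M ≤ L ∧ a ∈ M ∧
      ∀ c ∈ L, c * a * c⁻¹ ∈ M := by
  haveI := Fact.mk Nat.prime_two
  have htop : Subgroup.zpowers (⟨a, haL⟩ : L) ≠ ⊤ := fun htop => hne (by
    obtain ⟨i, hi⟩ := Subgroup.mem_zpowers_iff.mp (htop.symm ▸ Subgroup.mem_top (⟨b, hbL⟩ : L))
    have hi' : a ^ i = b := congrArg Subtype.val hi
    rw [← hi', (Commute.zpow_self a i).eq, mul_inv_cancel_right])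
  obtain ⟨M, hM, hle⟩ := (eq_top_or_exists_le_coatom _).resolve_left htop
  haveI := hL.isNilpotent
  haveI : M.Normal :=
    Subgroup.NormalizerCondition.normal_of_coatom M Group.normalizerCondition_of_isNilpotent hM
  have haM : (⟨a, haL⟩ : L) ∈ M := hle (Subgroup.mem_zpowers _)
  refine ⟨M.map L.subtype, ?_, Subgroup.map_subtype_le M, ⟨_, haM, rfl⟩,
    fun c hc => ⟨_, Subgroup.Normal.conj_mem inferInstance _ haM ⟨c, hc⟩, rfl⟩⟩
  rw [Subgroup.card_map_of_injective L.subtype_injective]
  refine lt_of_le_of_ne (Subgroup.card_le_card_group M) fun heq => hM.1 ?_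
  exact Subgroup.eq_top_of_card_eq M heq

section
variable {F}
include F

/-- An element preserving a plane preserves its fixed space. -/
theorem IsPlane.fixed_smul {a g : Γ} (ha : IsPlane q U a)
    (hg : ∀ x ∈ plane U a, g⁻¹ • x ∈ plane U a) {c : U} (hc : a • c = c) : a • g • c = g • c :=
  ha.fixed_of_orth (F := F) fun w hw => by
    rw [← smul_inv_smul g w, F.inv]
    exact ha.orth_fixed (hg w hw) hc

/-- The image of the plane under `b - 1` is the plane of `b` when it is injective. -/
theorem exists_preimage {a b : Γ} (ha : IsPlane q U a) (hb : IsPlane q U b)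
    (hinj : ∀ w ∈ plane U a, b • w = w → w = 0) {y : U} (hy : y ∈ plane U b) :
    ∃ w ∈ plane U a, b • w - w = y := by
  let g : (plane U a) → (plane U b) :=
    fun w => ⟨b • w.1 - w.1, sub_mem_plane b _⟩
  have hg : Function.Bijective g := by
    refine (Nat.bijective_iff_injective_and_card g).mpr ⟨?_, ?_⟩
    · intro v w hvw
      have h : b • v.1 - v.1 = b • w.1 - w.1 := congrArg Subtype.val hvw
      refine Subtype.ext (sub_eq_zero.mp (hinj _ (sub_mem v.2 w.2) ?_))
      rw [smul_sub, ← sub_eq_zero]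
      rw [← sub_eq_zero] at h
      rw [← h]
      abel
    · rw [ha.card_eq (F := F), hb.card_eq (F := F)]
  obtain ⟨w, hw⟩ := hg.2 ⟨y, hy⟩
  exact ⟨w.1, w.2, congrArg Subtype.val hw⟩

/-- Plane elements of a common `2`-group have equal or orthogonal planes. -/
theorem eq_or_orth (L : Subgroup Γ) (hL : IsPGroup 2 L) {a b : Γ} (haL : a ∈ L) (hbL : b ∈ L)
    (ha : IsPlane q U a) (hb : IsPlane q U b) :
    (plane U a) = plane U b ∨ F.Orth (plane U a) (plane U b) := by
  induction hn : Nat.card L using Nat.strong_induction_on generalizing L a b with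
  | _ n ih =>
  subst hn
  haveI := Fact.mk Nat.prime_two
  by_cases hinv : ∀ x ∈ plane U a, b • x ∈ (plane U a)
  · by_cases hf : ∃ f₀ ∈ (plane U a), f₀ ≠ 0 ∧ b • f₀ = f₀
    · obtain ⟨f₀, hf, hf0, hfix⟩ := hf
      have hfixall : ∀ w ∈ plane U a, b • w = w := fun w hw => sub_eq_zero.mp
        (hb.eq_zero_of_fixed (F := F) (sub_mem_plane b w)
          (ha.sub_fixed (F := F) hinv hf hf0 hfix hw))
      exact Or.inr fun x hx y hy => by rw [F.skew, hb.orth_fixed hy (hfixall x hx), neg_zero]
    · refine Or.inl (le_antisymm ?_ fun y hy => ?_)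
      · intro x hx
        let g : (plane U a) → (plane U a) :=
          fun w => ⟨b • w.1 - w.1, sub_mem (hinv _ w.2) w.2⟩
        have hg : Function.Injective g := by
          intro v w hvw
          have h : b • v.1 - v.1 = b • w.1 - w.1 := congrArg Subtype.val hvw
          refine Subtype.ext (sub_eq_zero.mp (by_contra fun hne =>
            hf ⟨_, sub_mem v.2 w.2, hne, ?_⟩))
          rw [smul_sub, ← sub_eq_zero]
          rw [← sub_eq_zero] at h
          rw [← h]
          abel
        obtain ⟨w, hw⟩ := (Finite.injective_iff_surjective.mp hg) ⟨x, hx⟩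
        exact ⟨w.1, congrArg Subtype.val hw⟩
      · obtain ⟨w, hw, rfl⟩ := exists_preimage (F := F) ha hb
          (fun w hw h => by_contra fun hne => hf ⟨w, hw, hne, h⟩) hy
        exact sub_mem (hinv w hw) hw
  · obtain ⟨M, hcard, hML, haM, hMc⟩ := exists_lt_conj L hL haL hbL (fun h => hinv fun x hx =>
      h ▸ (smul_mem_plane_conj b a).mpr hx)
    exfalso
    rcases ih _ hcard M (hL.to_le hML) haM (hMc b hbL) ha (ha.conj b) rfl with heq | hort
    · exact hinv fun x hx => heq ▸ (smul_mem_plane_conj b a).mpr hx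
    have hinj : ∀ w ∈ plane U a, b • w = w → w = 0 := fun w hw h =>
      ha.nondeg (F := F) hw fun x hx => by
        rw [← h, F.skew]
        rw [hort x hx _ ((smul_mem_plane_conj b a).mpr hw), neg_zero]
    obtain ⟨w, hw, hw0⟩ := (plane U a).bot_or_exists_ne_zero.resolve_left ha.ne
    have hmem : b • (b • w - w) ∈ (plane U b) := hb.smul_mem (sub_mem_plane b w)
    obtain ⟨v, hv, hvw⟩ := exists_preimage (F := F) ha hb hinj hmem
    have hbb : b • b • w = b • (v + w) - v := by
      rw [smul_sub] at hvw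
      rw [smul_add]
      have h' : b • b • w = b • v - v + b • w := eq_add_of_sub_eq hvw.symm
      rw [h']
      abel
    have hvw0 : v = -w → False := fun hvneg => hw0 (by
      have h1 := hb.quad _ (sub_mem_plane b w)
      rw [hvneg, neg_add_cancel, smul_zero, zero_sub, neg_neg] at hbb
      rw [smul_sub, smul_sub, hbb] at h1
      exact hinj w hw (sub_eq_zero.mp (F.eq_zero_of_eq_neg h1)))
    have hbbw : b • b • w ∈ plane U ((b * b) * a * (b * b)⁻¹) := by
      rw [← mul_smul]; exact (smul_mem_plane_conj (b * b) a).mpr hw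
    rcases ih _ hcard M (hL.to_le hML) haM (hMc _ (mul_mem hbL hbL)) ha (ha.conj (b * b)) rfl with heq | hort'
    · rw [← heq, hbb] at hbbw
      have hbv : b • (v + w) ∈ (plane U a) := by
        have := add_mem hbbw hv
        rwa [sub_add_cancel] at this
      have h0 : b • (v + w) = 0 := ha.nondeg (F := F) hbv fun x hx => by
        rw [F.skew, hort x hx _ ((smul_mem_plane_conj b a).mpr (add_mem hv hw)), neg_zero]
      exact hvw0 (eq_neg_of_add_eq_zero_left (by simpa using congrArg (b⁻¹ • ·) h0))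
    · have hv0 : v = 0 := ha.nondeg (F := F) hv fun x hx => by
        have h1 := hort' x hx _ hbbw
        rw [hbb, map_sub, hort x hx _ ((smul_mem_plane_conj b a).mpr (add_mem hv hw)), zero_sub,
          neg_eq_zero] at h1
        rw [F.skew, h1, neg_zero]
      rw [hv0, smul_zero, sub_zero, eq_comm] at hvw
      exact hw0 (hinj w hw (sub_eq_zero.mp (smul_eq_zero_iff_eq b |>.mp hvw)))

end

end Cfsg.Agent.Lib.TwoLengthExp
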