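/-
In a configuration of plane squares inside a normal `2`-group, the quotient of two such squares
`(X a)²` and `a²`, with `X` in the group they generate, commutes with all of them.
-/
import Cfsg.Agent.Lib.TwoLengthExp.Planes

set_option autoImplicit false
set_option linter.unusedSectionVars false
set_option linter.style.haveILetI false

namespace Cfsg.Agent.Lib.TwoLengthExp

variable {Γ U V : Type*} [Group Γ] [Finite Γ] [AddCommGroup U] [Finite U] [AddCommGroup V]
  [DistribMulAction Γ U] {q : ℕ}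

/-- A normal `2`-group with a set of involutions, each trivial or the square of a plane element. -/
structure Conf (F : Form Γ U V q) where
  Q : Subgroup Γ
  normal : Q.Normal
  isPGroup : IsPGroup 2 Q
  S : Set Γ
  sub : S ⊆ Q
  sq : ∀ s ∈ S, s * s = 1
  dich : ∀ s ∈ S, (∀ x : U, s • x = x) ∨
    ∃ b : Γ, IsPlane q U b ∧ IsPGroup 2 (Subgroup.zpowers b) ∧ ∀ x : U, s • x = b • b • x

/-- Two actions commute. -/
def ActComm (U : Type*) [AddCommGroup U] [DistribMulAction Γ U] (g h : Γ) : Prop :=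
  ∀ x : U, g • h • x = h • g • x

namespace Conf

variable {F : Form Γ U V q} (C : Conf F)

/-- An element whose square is one of the involutions and is trivial or a plane element. -/
structure El (a : Γ) : Prop where
  pow : IsPGroup 2 (Subgroup.zpowers a)
  sq_mem : a * a ∈ C.S
  dich : (∀ x : U, a • a • x = x) ∨ IsPlane q U a

include C

theorem inv_eq {s : Γ} (hs : s ∈ C.S) : s⁻¹ = s := inv_eq_of_mul_eq_one_right (C.sq s hs)

theorem smul_self {s : Γ} (hs : s ∈ C.S) (x : U) : s • s • x = x := by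
  rw [← mul_smul, C.sq s hs, one_smul]

theorem isPGroup_sup {a : Γ} (ha : IsPGroup 2 (Subgroup.zpowers a)) :
    IsPGroup 2 (C.Q ⊔ Subgroup.zpowers a : Subgroup Γ) := by
  haveI := C.normal
  exact IsPGroup.to_sup_of_normal_left C.isPGroup ha

theorem mem_sup {a : Γ} {n : Γ} (hn : n ∈ C.Q) :
    n ∈ (C.Q ⊔ Subgroup.zpowers a : Subgroup Γ) := Subgroup.mem_sup_left hn

theorem conj_mem_sup {a n : Γ} (hn : n ∈ C.Q) :
    n * a * n⁻¹ ∈ (C.Q ⊔ Subgroup.zpowers a : Subgroup Γ) :=
  mul_mem (mul_mem (C.mem_sup hn) (Subgroup.mem_sup_right (Subgroup.mem_zpowers a)))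
    (inv_mem (C.mem_sup hn))

/-- An involution preserving a plane commutes with the square. -/
theorem comm_of_maps {a s : Γ} (ha : IsPlane q U a) (hs : s ∈ C.S)
    (h : ∀ x ∈ plane U a, s • x ∈ plane U a) : ActComm U s (a * a) := by
  intro x
  obtain ⟨w, hw, hfix, haa⟩ := ha.sq_smul (F := F) x
  have hfix' : a • s • (x - w) = s • (x - w) :=
    ha.fixed_smul (F := F) (fun y hy => by rw [C.inv_eq hs]; exact h y hy) hfix
  rw [mul_smul, mul_smul, haa]
  nth_rw 2 [show x = w + (x - w) by abel]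
  rw [smul_add s, smul_add, smul_neg, smul_add a, smul_add a, ha.quad _ (h w hw), hfix', hfix']

/-- The planes of a plane element and of its conjugate coincide or are orthogonal. -/
theorem maps_or_orth {a s : Γ} (ha : IsPlane q U a) (hpa : IsPGroup 2 (Subgroup.zpowers a))
    (hs : s ∈ C.S) :
    (∀ x ∈ plane U a, s • x ∈ plane U a) ∨ F.Orth (plane U a) (plane U (s * a * s⁻¹)) := by
  rcases eq_or_orth (F := F) _ (C.isPGroup_sup hpa)
      (Subgroup.mem_sup_right (Subgroup.mem_zpowers a)) (C.conj_mem_sup (C.sub hs)) ha (ha.conj s)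
    with h | h
  · exact Or.inl fun x hx => h ▸ (smul_mem_plane_conj s a).mpr hx
  · exact Or.inr h

section
variable {a z : Γ} (ha : IsPlane q U a) (hz : z ∈ C.S)
  (ho : F.Orth (plane U a) (plane U (z * a * z⁻¹)))
include ha hz ho

theorem swap_left {x : U} (hx : x ∈ plane U (z * a * z⁻¹)) : z • x ∈ plane U a := by
  rw [← C.smul_self hz x, smul_mem_plane_conj] at hx
  exact hx

theorem eq_zero_of_mem {x : U} (h1 : x ∈ plane U a) (h2 : x ∈ plane U (z * a * z⁻¹)) : x = 0 :=
  ha.nondeg (F := F) h1 fun y hy => by rw [F.skew, ho y hy x h2, neg_zero]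

/-- A swapper is the square of a plane element whose plane is the image of `z - 1`. -/
theorem swapper_plane : ∃ b : Γ, IsPlane q U b ∧ IsPGroup 2 (Subgroup.zpowers b) ∧
    (∀ x : U, z • x = b • b • x) ∧ ∀ v ∈ plane U b, ∃ w ∈ plane U a, z • w - w = v := by
  rcases C.dich z hz with htriv | ⟨b, hb, hbp, hbb⟩
  · exfalso
    obtain ⟨w, hw, hw0⟩ := (plane U a).bot_or_exists_ne_zero.resolve_left ha.ne
    refine hw0 (C.eq_zero_of_mem ha hz ho hw ?_)
    have h := (smul_mem_plane_conj z a).mpr hw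
    rwa [htriv w] at h
  refine ⟨b, hb, hbp, hbb, fun v hv => ?_⟩
  have hmem : ∀ w : U, z • w - w ∈ plane U b := fun w => by
    rw [hbb w, show b • b • w - w = (b • (b • w) - b • w) + (b • w - w) by abel]
    exact add_mem (sub_mem_plane b _) (sub_mem_plane b _)
  let g : (plane U a) → (plane U b) := fun w => ⟨z • w.1 - w.1, hmem _⟩
  have hg : Function.Bijective g := by
    refine (Nat.bijective_iff_injective_and_card g).mpr ⟨?_, ?_⟩
    · intro v w hvw
      have h : z • v.1 - v.1 = z • w.1 - w.1 := congrArg Subtype.val hvw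
      refine Subtype.ext (sub_eq_zero.mp (C.eq_zero_of_mem ha hz ho (sub_mem v.2 w.2) ?_))
      have hfix : z • (v.1 - w.1) = v.1 - w.1 := by
        rw [smul_sub, ← sub_eq_zero]
        rw [← sub_eq_zero] at h
        rw [← h]
        abel
      rw [← hfix]
      exact (smul_mem_plane_conj z a).mpr (sub_mem v.2 w.2)
    · rw [ha.card_eq (F := F), hb.card_eq (F := F)]
  obtain ⟨w, hw⟩ := hg.2 ⟨v, hv⟩
  exact ⟨w.1, w.2, congrArg Subtype.val hw⟩

/-- A swapper fixes what is orthogonal to both planes. -/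
theorem fix_of_orth {x : U} (h1 : ∀ w ∈ plane U a, F.f w x = 0)
    (h2 : ∀ w ∈ plane U (z * a * z⁻¹), F.f w x = 0) : z • x = x := by
  obtain ⟨b, hb, -, hbb, hpre⟩ := C.swapper_plane ha hz ho
  have hfix : b • x = x := hb.fixed_of_orth (F := F) fun v hv => by
    obtain ⟨w, hw, rfl⟩ := hpre v hv
    rw [map_sub, AddMonoidHom.sub_apply, h1 w hw, h2 _ ((smul_mem_plane_conj z a).mpr hw),
      sub_zero]
  rw [hbb x, hfix, hfix]

end

/-- Another involution keeps the pair of planes. -/
theorem keep_or_swap {a z s : Γ} (ha : IsPlane q U a) (hpa : IsPGroup 2 (Subgroup.zpowers a))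
    (hz : z ∈ C.S) (ho : F.Orth (plane U a) (plane U (z * a * z⁻¹))) (hs : s ∈ C.S) :
    (∀ x ∈ plane U a, s • x ∈ plane U a) ∨
      (∀ x ∈ plane U a, s • x ∈ plane U (z * a * z⁻¹)) := by
  rcases C.maps_or_orth ha hpa hs with h | ho₂
  · exact Or.inl h
  rcases eq_or_orth (F := F) _ (C.isPGroup_sup hpa) (C.conj_mem_sup (C.sub hs))
      (C.conj_mem_sup (C.sub hz)) (ha.conj s) (ha.conj z) with h | ho₃
  · exact Or.inr fun x hx => h ▸ (smul_mem_plane_conj s a).mpr hx
  exfalso
  obtain ⟨g, hg⟩ : ∃ g, g = s * z := ⟨_, rfl⟩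
  have hW1 : ∀ w ∈ plane U a, g • w = z • w := fun w hw => by
    rw [hg, mul_smul]
    have hzw := (smul_mem_plane_conj z a).mpr hw
    exact C.fix_of_orth ha hs ho₂ (fun v hv => ho v hv _ hzw) (fun v hv => ho₃ v hv _ hzw)
  have h3 : ∀ w ∈ plane U a, (g ^ 3) • w ∈ plane U a := by
    intro w hw
    have h1 : g • z • w = s • w := by rw [hg, mul_smul, C.smul_self hz]
    have hsw := (smul_mem_plane_conj s a).mpr hw
    have h2 : g • s • w = w := by
      rw [hg, mul_smul, C.fix_of_orth ha hz ho (fun v hv => ho₂ v hv _ hsw)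
        (fun v hv => ho₃.symm v hv _ hsw), C.smul_self hs]
    rw [pow_succ, pow_succ, pow_one, mul_smul, mul_smul, hW1 w hw, h1, h2]
    exact hw
  have hpow : ∀ (k : ℕ), ∀ w ∈ plane U a, ((g ^ 3) ^ k) • w ∈ plane U a := by
    intro k
    induction k with
    | zero => intro w hw; simpa using hw
    | succ k ih => intro w hw; rw [pow_succ, mul_smul]; exact ih _ (h3 w hw)
  obtain ⟨k, hk⟩ : ∃ k : ℕ, (g ^ 3) ^ k = g := by
    obtain ⟨n, hn⟩ := C.isPGroup ⟨g, hg ▸ mul_mem (C.sub hs) (C.sub hz)⟩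
    have hn' : g ^ 2 ^ n = 1 := congrArg Subtype.val hn
    obtain ⟨m, hm⟩ := exists_pow_eq_self_of_coprime (n := 3) (x := g)
      ((Nat.Coprime.pow_right n (by norm_num : Nat.Coprime 3 2)).coprime_dvd_right
        (orderOf_dvd_of_pow_eq_one hn'))
    exact ⟨m, hm⟩
  obtain ⟨w, hw, hw0⟩ := (plane U a).bot_or_exists_ne_zero.resolve_left ha.ne
  have h4 := hpow k w hw
  rw [hk, hW1 w hw] at h4
  exact hw0 ((smul_eq_zero_iff_eq z).mp
    (C.eq_zero_of_mem ha hz ho h4 ((smul_mem_plane_conj z a).mpr hw)))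

/-- The sum of the two planes. -/
def InY (_C : Conf F) (a z : Γ) (x : U) : Prop :=
  ∃ w ∈ plane U a, ∃ w' ∈ plane U (z * a * z⁻¹), w + w' = x

/-- Agreement up to a sign on the sum of the two planes. -/
def PM (C : Conf F) (a z g h : Γ) : Prop :=
  (∀ x, C.InY a z x → g • x = h • x) ∨ (∀ x, C.InY a z x → g • x = -(h • x))

/-- Keeps both planes or swaps them. -/
def Keeps (_C : Conf F) (a z g : Γ) : Prop :=
  ((∀ x ∈ plane U a, g • x ∈ plane U a) ∧
      ∀ x ∈ plane U (z * a * z⁻¹), g • x ∈ plane U (z * a * z⁻¹)) ∨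
    ((∀ x ∈ plane U a, g • x ∈ plane U (z * a * z⁻¹)) ∧
      ∀ x ∈ plane U (z * a * z⁻¹), g • x ∈ plane U a)

theorem Keeps.inY {a z g : Γ} (h : C.Keeps a z g) {x : U} (hx : C.InY a z x) :
    C.InY a z (g • x) := by
  obtain ⟨w, hw, w', hw', rfl⟩ := hx
  rw [smul_add]
  rcases h with ⟨h1, h2⟩ | ⟨h1, h2⟩
  · exact ⟨_, h1 w hw, _, h2 w' hw', rfl⟩
  · exact ⟨_, h2 w' hw', _, h1 w hw, add_comm _ _⟩

theorem Keeps.mul {a z g h : Γ} (hg : C.Keeps a z g) (hh : C.Keeps a z h) :
    C.Keeps a z (g * h) := by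
  simp only [Keeps, mul_smul] at *
  rcases hg with ⟨g1, g2⟩ | ⟨g1, g2⟩ <;> rcases hh with ⟨h1, h2⟩ | ⟨h1, h2⟩
  · exact Or.inl ⟨fun x hx => g1 _ (h1 x hx), fun x hx => g2 _ (h2 x hx)⟩
  · exact Or.inr ⟨fun x hx => g2 _ (h1 x hx), fun x hx => g1 _ (h2 x hx)⟩
  · exact Or.inr ⟨fun x hx => g1 _ (h1 x hx), fun x hx => g2 _ (h2 x hx)⟩
  · exact Or.inl ⟨fun x hx => g2 _ (h1 x hx), fun x hx => g1 _ (h2 x hx)⟩

section
variable {a z : Γ} (ha : IsPlane q U a) (hpa : IsPGroup 2 (Subgroup.zpowers a))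
  (hz : z ∈ C.S) (ho : F.Orth (plane U a) (plane U (z * a * z⁻¹)))
include ha hpa hz ho

theorem keeps {s : Γ} (hs : s ∈ C.S) : C.Keeps a z s := by
  have hconj : z * (z * a * z⁻¹) * z⁻¹ = a := by
    rw [C.inv_eq hz, ← mul_assoc, ← mul_assoc, C.sq z hz, one_mul, mul_assoc, C.sq z hz, mul_one]
  have hpa' : IsPGroup 2 (Subgroup.zpowers (z * a * z⁻¹)) :=
    (C.isPGroup_sup hpa).to_le (Subgroup.zpowers_le.mpr (C.conj_mem_sup (C.sub hz)))
  have h' := C.keep_or_swap (ha.conj z) hpa' hz (by rw [hconj]; exact ho.symm) hs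
  rw [hconj] at h'
  have hne : ∀ (A B : AddSubgroup U) (hA : A ≠ ⊥) (hAB : ∀ x ∈ A, x ∈ B → x = 0),
      (∀ x ∈ A, s • x ∈ B) → (∀ x ∈ B, s • x ∈ B) → False := by
    intro A B hA hAB h1 h2
    obtain ⟨w, hw, hw0⟩ := A.bot_or_exists_ne_zero.resolve_left hA
    refine hw0 (hAB w hw ?_)
    rw [← C.smul_self hs w]
    exact h2 _ (h1 w hw)
  rcases C.keep_or_swap ha hpa hz ho hs with h1 | h1 <;> rcases h' with h2 | h2
  · exact Or.inl ⟨h1, h2⟩
  · exact (hne _ _ (ha.conj z).ne (fun x hx hx' => C.eq_zero_of_mem ha hz ho hx' hx) h2 h1).elim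
  · exact (hne _ _ ha.ne (fun x hx hx' => C.eq_zero_of_mem ha hz ho hx hx') h1 h2).elim
  · exact Or.inr ⟨h1, h2⟩

/-- The involutions commute up to a sign on the sum of the planes. -/
theorem sign_comm (haa : a * a ∈ C.S) {s s' : Γ} (hs : s ∈ C.S) (hs' : s' ∈ C.S) :
    C.PM a z (s * s') (s' * s) := by
  -- one of them keeps both planes
  have key : ∀ {t t' : Γ}, t ∈ C.S → t' ∈ C.S →
      ((∀ x ∈ plane U a, t • x ∈ plane U a) ∧
        ∀ x ∈ plane U (z * a * z⁻¹), t • x ∈ plane U (z * a * z⁻¹)) →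
      C.PM a z (t * t') (t' * t) := by
    intro t t' ht ht' ⟨h1, h2⟩
    obtain ⟨ε, hε, e⟩ : ∃ ε : ℤ, (ε = 1 ∨ ε = -1) ∧ ∀ x ∈ plane U a, t • x = ε • x := by
      rcases ha.scalar_of_sq (F := F) h1 (fun x _ => C.smul_self ht x) with h | h
      · exact ⟨1, Or.inl rfl, fun x hx => by rw [one_zsmul, h x hx]⟩
      · exact ⟨-1, Or.inr rfl, fun x hx => by rw [neg_one_zsmul, h x hx]⟩
    obtain ⟨ε', hε', e'⟩ : ∃ ε : ℤ, (ε = 1 ∨ ε = -1) ∧
        ∀ x ∈ plane U (z * a * z⁻¹), t • x = ε • x := by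
      rcases (ha.conj z).scalar_of_sq (F := F) h2 (fun x _ => C.smul_self ht x) with h | h
      · exact ⟨1, Or.inl rfl, fun x hx => by rw [one_zsmul, h x hx]⟩
      · exact ⟨-1, Or.inr rfl, fun x hx => by rw [neg_one_zsmul, h x hx]⟩
    have hrhs : ∀ w ∈ plane U a, ∀ w' ∈ plane U (z * a * z⁻¹),
        (t' * t) • (w + w') = ε • t' • w + ε' • t' • w' := fun w hw w' hw' => by
      rw [mul_smul, smul_add, e w hw, e' w' hw', smul_add, smul_comm t', smul_comm t']
    rcases C.keeps ha hpa hz ho ht' with ⟨k1, k2⟩ | ⟨k1, k2⟩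
    · refine Or.inl ?_
      rintro x ⟨w, hw, w', hw', rfl⟩
      rw [hrhs w hw w' hw', mul_smul, smul_add, smul_add, e _ (k1 w hw), e' _ (k2 w' hw')]
    · by_cases hεε : ε = ε'
      · refine Or.inl ?_
        rintro x ⟨w, hw, w', hw', rfl⟩
        rw [hrhs w hw w' hw', mul_smul, smul_add, smul_add, e' _ (k1 w hw), e _ (k2 w' hw'), hεε]
      · have hneg : ε' = -ε := by rcases hε with rfl | rfl <;> rcases hε' with rfl | rfl <;> simp_all
        refine Or.inr ?_
        rintro x ⟨w, hw, w', hw', rfl⟩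
        rw [hrhs w hw w' hw', mul_smul, smul_add, smul_add, e' _ (k1 w hw), e _ (k2 w' hw'), hneg,
          neg_smul, neg_smul, neg_add, neg_neg]
  rcases C.keeps ha hpa hz ho hs with hk | ⟨s1, s2⟩
  · exact key hs hs' hk
  rcases C.keeps ha hpa hz ho hs' with hk | ⟨s1', s2'⟩
  · rcases key hs' hs hk with h | h
    · exact Or.inl fun x hx => (h x hx).symm
    · exact Or.inr fun x hx => by rw [h x hx, neg_neg]
  -- both swap
  obtain ⟨w₀, hw₀, hw₀0⟩ := (plane U a).bot_or_exists_ne_zero.resolve_left ha.ne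
  rcases C.dich s hs with htriv | ⟨b, hb, hbp, hbb⟩
  · exact absurd (C.eq_zero_of_mem ha hz ho hw₀ (htriv w₀ ▸ s1 w₀ hw₀)) hw₀0
  obtain ⟨c, hc⟩ : ∃ c, c = a * a := ⟨_, rfl⟩
  rw [← hc] at haa
  have hcW : ∀ w ∈ plane U a, c • w = -w := fun w hw => by rw [hc, mul_smul, ha.quad w hw]
  have hcW' : ∀ w ∈ plane U (z * a * z⁻¹), c • w = w := fun w hw => by
    have hfix : a • w = w := ha.fixed_of_orth (F := F) fun v hv => ho v hv w hw
    rw [hc, mul_smul, hfix, hfix]
  have hoV : F.Orth (plane U b) (plane U (c * b * c⁻¹)) := by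
    rcases C.maps_or_orth hb hbp haa with h | h
    · exfalso
      have h1 := C.comm_of_maps hb haa h w₀
      rw [mul_smul, mul_smul, ← hbb, ← hbb, hcW w₀ hw₀, smul_neg, hcW' _ (s1 w₀ hw₀)] at h1
      exact hw₀0 ((smul_eq_zero_iff_eq s).mp (F.eq_zero_of_eq_neg h1))
    · exact h
  rcases C.keeps hb hbp haa hoV hs' with ⟨v1, -⟩ | ⟨v1, v2⟩
  · refine Or.inl fun x _ => ?_
    have h := C.comm_of_maps hb hs' v1 x
    simp only [mul_smul, ← hbb] at h
    rw [mul_smul, mul_smul, h]
  · have hsV : ∀ v ∈ plane U b, s • v = -v := fun v hv => by rw [hbb, hb.quad v hv]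
    have hsV' : ∀ v ∈ plane U (c * b * c⁻¹), s • v = v := fun v hv => by
      have hfix : b • v = v := hb.fixed_of_orth (F := F) fun u hu => hoV u hu v hv
      rw [hbb, hfix, hfix]
    have hanti : ∀ v ∈ plane U b, ∀ v' ∈ plane U (c * b * c⁻¹),
        (s * s') • (v + v') = -((s' * s) • (v + v')) := fun v hv v' hv' => by
      rw [mul_smul, mul_smul, smul_add s', smul_add s, hsV' _ (v1 v hv), hsV _ (v2 v' hv'),
        smul_add s, hsV v hv, hsV' v' hv', smul_add s', smul_neg]
      abel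
    have hsub : ∀ x, C.InY a z x →
        ∃ v ∈ plane U b, ∃ v' ∈ plane U (c * b * c⁻¹), v + v' = x + x := by
      have hone : ∀ w ∈ plane U a, s • w - w ∈ plane U b ∧
          s • w + w ∈ plane U (c * b * c⁻¹) := fun w hw => by
        have hmem : s • w - w ∈ plane U b := by
          rw [hbb, show b • b • w - w = (b • (b • w) - b • w) + (b • w - w) by abel]
          exact add_mem (sub_mem_plane b _) (sub_mem_plane b _)
        refine ⟨hmem, ?_⟩
        have h := (smul_mem_plane_conj c b).mpr hmem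
        rwa [smul_sub, hcW w hw, hcW' _ (s1 w hw), sub_neg_eq_add] at h
      rintro x ⟨w, hw, w', hw', rfl⟩
      obtain ⟨h1, h2⟩ := hone w hw
      obtain ⟨h3, h4⟩ := hone (s • w') (s2 w' hw')
      rw [C.smul_self hs] at h3 h4
      refine ⟨-(s • w - w) + (w' - s • w'), add_mem (neg_mem h1) h3, _, add_mem h2 h4, ?_⟩
      abel
    refine Or.inr fun x hx => ?_
    obtain ⟨v, hv, v', hv', hvv⟩ := hsub x hx
    have h := hanti v hv v' hv'
    rw [hvv, smul_add, smul_add] at h
    exact eq_neg_of_add_eq_zero_left (F.eq_zero_of_add_self (by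
      rw [add_add_add_comm, h]
      abel))

end

/-- `X` keeps the pair, squares to a sign and commutes up to a sign with the involutions. -/
structure Nice (a z X : Γ) : Prop where
  keeps : C.Keeps a z X
  sq : C.PM a z (X * X) 1
  comm : ∀ s ∈ C.S, C.PM a z (X * s) (s * X)

omit [Finite Γ] in
theorem PM.mul_left {a z g h : Γ} (hp : C.PM a z g h) (k : Γ) : C.PM a z (k * g) (k * h) := by
  rcases hp with hp | hp
  · exact Or.inl fun x hx => by rw [mul_smul, mul_smul, hp x hx]
  · exact Or.inr fun x hx => by rw [mul_smul, mul_smul, hp x hx, smul_neg]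

theorem PM.mul_right {a z g h k : Γ} (hp : C.PM a z g h) (hk : C.Keeps a z k) :
    C.PM a z (g * k) (h * k) := by
  rcases hp with hp | hp
  · exact Or.inl fun x hx => by rw [mul_smul, mul_smul, hp _ (hk.inY C hx)]
  · exact Or.inr fun x hx => by rw [mul_smul, mul_smul, hp _ (hk.inY C hx)]

omit [Finite Γ] in
theorem PM.trans {a z g h k : Γ} (hp : C.PM a z g h) (hq : C.PM a z h k) : C.PM a z g k := by
  rcases hp with hp | hp <;> rcases hq with hq | hq
  · exact Or.inl fun x hx => by rw [hp x hx, hq x hx]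
  · exact Or.inr fun x hx => by rw [hp x hx, hq x hx]
  · exact Or.inr fun x hx => by rw [hp x hx, hq x hx]
  · exact Or.inl fun x hx => by rw [hp x hx, hq x hx, neg_neg]

theorem nice_of_mem {a z : Γ} (ha : IsPlane q U a) (hpa : IsPGroup 2 (Subgroup.zpowers a))
    (haa : a * a ∈ C.S) (hz : z ∈ C.S) (ho : F.Orth (plane U a) (plane U (z * a * z⁻¹)))
    {X : Γ} (hX : X ∈ Subgroup.closure C.S) : C.Nice a z X := by
  have hstep : ∀ s ∈ C.S, ∀ y : Γ, C.Nice a z y → C.Nice a z (s * y) := by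
    intro s hs y hy
    have hk := C.keeps ha hpa hz ho hs
    refine ⟨hk.mul C hy.keeps, ?_, fun t ht => ?_⟩
    · have h1 : C.PM a z (s * y * (s * y)) (s * s * (y * y)) := by
        have := ((hy.comm s hs).mul_left C s).mul_right C hy.keeps
        simpa only [mul_assoc] using this
      rw [C.sq s hs, one_mul] at h1
      exact h1.trans C hy.sq
    · have h1 : C.PM a z (s * y * t) (s * t * y) := by
        have := (hy.comm t ht).mul_left C s
        simpa only [mul_assoc] using this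
      have h2 : C.PM a z (s * t * y) (t * (s * y)) := by
        have := (C.sign_comm ha hpa hz ho haa hs ht).mul_right C hy.keeps
        simpa only [mul_assoc] using this
      exact h1.trans C h2
  induction hX using Subgroup.closure_induction_left with
  | one =>
    refine ⟨Or.inl ⟨fun x hx => by rwa [one_smul], fun x hx => by rwa [one_smul]⟩,
      Or.inl fun x _ => by rw [one_mul], fun s _ => Or.inl fun x _ => by rw [one_mul, mul_one]⟩
  | mul_left s hs y _ ih => exact hstep s hs y ih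
  | inv_mul_cancel s hs y _ ih => rw [C.inv_eq hs]; exact hstep s hs y ih

section
variable {a X z : Γ} (hEa : C.El a) (hX : X ∈ Subgroup.closure C.S) (hEX : C.El (X * a))
include hEa hX hEX

theorem mem_sup_mul : X * a ∈ (C.Q ⊔ Subgroup.zpowers a : Subgroup Γ) :=
  mul_mem (C.mem_sup (((Subgroup.closure_le _).mpr C.sub) hX))
    (Subgroup.mem_sup_right (Subgroup.mem_zpowers a))

/-- The two squares commute. -/
theorem squares_comm : ActComm U (a * a) ((X * a) * (X * a)) := by
  rcases hEa.dich with h | ha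
  · intro x; simp only [mul_smul, h]
  rcases hEX.dich with h | hb
  · intro x; simp only [mul_smul] at h ⊢; simp only [h]
  intro x
  refine (C.comm_of_maps hb hEa.sq_mem (fun y hy => ?_) x)
  rcases eq_or_orth (F := F) _ (C.isPGroup_sup hEa.pow)
      (Subgroup.mem_sup_right (Subgroup.mem_zpowers a)) (C.mem_sup_mul hEa hX hEX) ha hb with h | h
  · rw [← h] at hy ⊢
    rw [mul_smul, ha.quad y hy]
    exact neg_mem hy
  · have hfix : a • y = y := ha.fixed_of_orth (F := F) fun w hw => h w hw y hy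
    rwa [mul_smul, hfix, hfix]

/-- The main case: `z` does not commute with `a * a`. -/
theorem comm_of_not_comm (hz : z ∈ C.S) (hn : ¬ ActComm U z (a * a)) :
    ActComm U z (((X * a) * (X * a)) * (a * a)) := by
  have ha : IsPlane q U a := hEa.dich.resolve_left fun h =>
    hn fun x => by simp only [mul_smul, h]
  have ho : F.Orth (plane U a) (plane U (z * a * z⁻¹)) :=
    (C.maps_or_orth ha hEa.pow hz).resolve_left fun h => hn (C.comm_of_maps ha hz h)
  set W' := plane U (z * a * z⁻¹) with hW'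
  obtain ⟨c', hc'⟩ : ∃ c', c' = (X * a) * (X * a) := ⟨_, rfl⟩
  rw [← hc']
  have haW' : ∀ x ∈ W', a • x = x := fun x hx => ha.fixed_of_orth (F := F) fun w hw => ho w hw x hx
  have hzz : ∀ x : U, (z * (a * a) * z) • x = (z * a * z⁻¹) • (z * a * z⁻¹) • x := fun x => by
    rw [← mul_smul]
    congr 1
    rw [C.inv_eq hz]
    calc z * (a * a) * z = z * a * (z * z) * a * z := by rw [C.sq z hz]; group
      _ = z * a * z * (z * a * z) := by group
  -- either the claim holds or `c'` fixes both planes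
  suffices hfix : (∀ x ∈ plane U a, c' • x = x) → (∀ x ∈ W', c' • x = x) → False by
    have hfin : ∀ (p : Γ), IsPlane q U p → p ∈ (C.Q ⊔ Subgroup.zpowers a : Subgroup Γ) →
        (∀ x : U, c' • x = p • p • x) →
        ((plane U a : AddSubgroup U) = plane U p ∨ W' = plane U p) →
        ActComm U z (c' * (a * a)) := by
      intro p hp _ hpc hcase x
      have hsame : ∀ {r : Γ}, IsPlane q U r → plane U r = plane U p →
          ∀ y : U, r • r • y = p • p • y := by
        intro r hr hrp y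
        obtain ⟨w, hw, hfw, hyy⟩ := hr.sq_smul (F := F) y
        have hfp : p • (y - w) = y - w := hp.fixed_of_orth (F := F) fun v hv =>
          hr.orth_fixed (F := F) (hrp ▸ hv) hfw
        rw [hyy]
        nth_rw 2 [show y = w + (y - w) by abel]
        rw [smul_add, hfp, smul_add, hfp, hp.quad w (hrp ▸ hw)]
      rcases hcase with h | h
      · -- the product is trivial
        have hw1 : ∀ y : U, (c' * (a * a)) • y = y := fun y => by
          rw [mul_smul, hpc, mul_smul, ← hsame ha h]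
          have := C.smul_self hEa.sq_mem y
          simpa only [mul_smul] using this
        rw [hw1, hw1]
      · have hcd : ∀ y : U, c' • y = (z * (a * a) * z) • y := fun y => by
          rw [hpc, hzz, hsame (ha.conj z) h]
        have hcomm : ActComm U (a * a) (z * (a * a) * z) := fun y => by
          have := C.comm_of_maps (ha.conj z) hEa.sq_mem (fun v hv => by
            rw [mul_smul, haW' v hv, haW' v hv]; exact hv) y
          simp only [mul_smul] at this hzz ⊢
          rw [hzz, hzz]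
          exact this
        rw [mul_smul c', mul_smul c', hcd, hcd]
        have h1 := hcomm (z • x)
        simp only [mul_smul, C.smul_self hz] at h1 ⊢
        exact h1
    by_cases hcase : (∀ x ∈ plane U a, c' • x = x) ∧ ∀ x ∈ W', c' • x = x
    · exact (hfix hcase.1 hcase.2).elim
    rcases hEX.dich with htriv | hb
    · exact absurd ⟨fun x _ => by rw [hc', mul_smul, htriv], fun x _ => by
        rw [hc', mul_smul, htriv]⟩ hcase
    have hc'p : ∀ x : U, c' • x = (X * a) • (X * a) • x := fun x => by rw [hc', mul_smul]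
    rcases eq_or_orth (F := F) _ (C.isPGroup_sup hEa.pow)
        (Subgroup.mem_sup_right (Subgroup.mem_zpowers a)) (C.mem_sup_mul hEa hX hEX) ha hb
      with h | h1
    · exact hfin _ hb (C.mem_sup_mul hEa hX hEX) hc'p (Or.inl h)
    rcases eq_or_orth (F := F) _ (C.isPGroup_sup hEa.pow) (C.conj_mem_sup (C.sub hz))
        (C.mem_sup_mul hEa hX hEX) (ha.conj z) hb with h | h2
    · exact hfin _ hb (C.mem_sup_mul hEa hX hEX) hc'p (Or.inr h)
    refine absurd ⟨fun x hx => ?_, fun x hx => ?_⟩ hcase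
    · have := hb.fixed_of_orth (F := F) fun w hw => h1.symm w hw x hx
      rw [hc'p, this, this]
    · have := hb.fixed_of_orth (F := F) fun w hw => h2.symm w hw x hx
      rw [hc'p, this, this]
  intro hcW hcW'
  have hN := C.nice_of_mem ha hEa.pow hEa.sq_mem hz ho hX
  obtain ⟨w₀, hw₀, hw₀0⟩ := (plane U a).bot_or_exists_ne_zero.resolve_left ha.ne
  have hc'2 : ∀ x : U, (X * a) • (X * a) • x = c' • x := fun x => by rw [hc', mul_smul (X * a)]
  rcases hN.keeps with ⟨k1, k2⟩ | ⟨k1, k2⟩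
  · -- `X` keeps both planes
    have hgW : ∀ x ∈ plane U a, (X * a) • x ∈ plane U a := fun x hx => by
      rw [mul_smul]; exact k1 _ (ha.smul_mem hx)
    obtain ⟨σ, hσ, hg⟩ : ∃ σ : ℤ, (σ = 1 ∨ σ = -1) ∧
        ∀ x ∈ plane U a, (X * a) • x = σ • x := by
      rcases ha.scalar_of_sq (F := F) hgW (fun x hx => by rw [hc'2, hcW x hx]) with h | h
      · exact ⟨1, Or.inl rfl, fun x hx => by rw [one_zsmul, h x hx]⟩
      · exact ⟨-1, Or.inr rfl, fun x hx => by rw [neg_one_zsmul, h x hx]⟩
    set y := a • w₀ with hy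
    have hyW : y ∈ plane U a := ha.smul_mem hw₀
    have hXw : X • w₀ = -(σ • y) := by
      have h := hg y hyW
      rw [mul_smul, hy, ha.quad w₀ hw₀, smul_neg] at h
      rw [← hy] at h
      exact neg_eq_iff_eq_neg.mp h
    have hXy : X • y = σ • w₀ := by
      have h := hg w₀ hw₀
      rwa [mul_smul, ← hy] at h
    have hXX : (X * X) • w₀ = -w₀ := by
      rw [mul_smul, hXw, smul_neg, smul_comm X, hXy, smul_smul]
      rcases hσ with rfl | rfl <;> simp
    have hin : ∀ {x}, x ∈ plane U a → C.InY a z x := fun hx =>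
      ⟨_, hx, 0, zero_mem _, add_zero _⟩
    rcases hN.sq with hp | hp
    · have h := hp w₀ (hin hw₀)
      rw [hXX, one_smul] at h
      exact hw₀0 (F.eq_zero_of_eq_neg h.symm)
    · have hw' : z • w₀ ∈ W' := (smul_mem_plane_conj z a).mpr hw₀
      have h := hp (z • w₀) ⟨0, zero_mem _, _, hw', zero_add _⟩
      have h2 := hcW' _ hw'
      rw [← hc'2, mul_smul X a (z • w₀), haW' _ hw', mul_smul X a (X • z • w₀),
        haW' _ (k2 _ hw'), ← mul_smul, h, one_smul] at h2
      exact hw₀0 ((smul_eq_zero_iff_eq z).mp (F.eq_zero_of_eq_neg h2.symm))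
  · -- `X` swaps them
    have h2 := hcW w₀ hw₀
    rw [← hc'2, mul_smul, mul_smul, haW' _ (k1 _ (ha.smul_mem hw₀))] at h2
    have hin : C.InY a z (a • w₀) := ⟨_, ha.smul_mem hw₀, 0, zero_mem _, add_zero _⟩
    rcases hN.sq with hp | hp
    · have h3 := hp _ hin
      rw [mul_smul, h2, one_smul] at h3
      have h4 := ha.quad w₀ hw₀
      rw [← h3, ← h3] at h4
      exact hw₀0 (F.eq_zero_of_eq_neg h4)
    · have h3 := hp _ hin
      rw [mul_smul, h2, one_smul] at h3
      have h4 := ha.quad w₀ hw₀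
      rw [← neg_eq_iff_eq_neg.mpr h3, smul_neg, ← neg_eq_iff_eq_neg.mpr h3, neg_neg] at h4
      exact hw₀0 (F.eq_zero_of_eq_neg h4)

/-- **The claim.** -/
theorem comm_mul_squares (hz : z ∈ C.S) :
    ActComm U z (((X * a) * (X * a)) * (a * a)) := by
  by_cases h1 : ActComm U z (a * a)
  · by_cases h2 : ActComm U z ((X * a) * (X * a))
    · intro x
      rw [mul_smul ((X * a) * (X * a)) (a * a) x, mul_smul ((X * a) * (X * a)) (a * a) (z • x),
        h2, h1]
    · have hE : C.El (X⁻¹ * (X * a)) := by rw [inv_mul_cancel_left]; exact hEa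
      have h := C.comm_of_not_comm hEX (inv_mem hX) hE hz h2
      rw [inv_mul_cancel_left] at h
      intro x
      have hsc : ∀ y : U, ((X * a) * (X * a) * (a * a)) • y = ((a * a) * ((X * a) * (X * a))) • y :=
        fun y => by rw [mul_smul, mul_smul (a * a)]; exact (C.squares_comm hEa hX hEX y).symm
      rw [hsc, hsc, h]
  · exact C.comm_of_not_comm hEa hX hEX hz h1

end

end Conf

end Cfsg.Agent.Lib.TwoLengthExp
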