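/-
An involution commuting with the squares of the plane elements `a` and `d * a` does not change the
square.
-/
import Cfsg.Agent.Lib.TwoLengthExp.Claim

set_option autoImplicit false
set_option linter.unusedSectionVars false

namespace Cfsg.Agent.Lib.TwoLengthExp

variable {Γ U V : Type*} [Group Γ] [Finite Γ] [AddCommGroup U] [Finite U] [AddCommGroup V]
  [DistribMulAction Γ U] {q : ℕ}

/-- An involution commuting with the square of a plane element commutes with the element. -/
theorem IsPlane.comm_of_comm_sq (F : Form Γ U V q) {a d : Γ} (ha : IsPlane q U a) (hd : d * d = 1)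
    (hc : ActComm U d (a * a)) : ActComm U d a := by
  have hdd : ∀ x : U, d • d • x = x := fun x => by rw [← mul_smul, hd, one_smul]
  have hW : ∀ x ∈ plane U a, d • x ∈ plane U a := fun x hx => by
    obtain ⟨v, hv, hfix, haa⟩ := ha.sq_smul (F := F) (d • x)
    have h := hc x
    rw [mul_smul, mul_smul, ha.quad x hx, haa, smul_neg] at h
    have h0 : d • x - v = 0 := F.eq_zero_of_add_self (by
      rw [neg_eq_iff_eq_neg] at h
      nth_rw 2 [h]
      abel)
    rw [sub_eq_zero.mp h0]
    exact hv
  intro x
  obtain ⟨w, hw, hfix⟩ := ha.decomp (F := F) x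
  have hfix' : a • d • (x - w) = d • (x - w) :=
    ha.fixed_smul (F := F) (fun y hy => by
      rw [inv_eq_of_mul_eq_one_right hd]; exact hW y hy) hfix
  have hcw : d • a • w = a • d • w := by
    rcases ha.scalar_of_sq (F := F) hW (fun y _ => hdd y) with h | h
    · rw [h w hw, h _ (ha.smul_mem hw)]
    · rw [h w hw, h _ (ha.smul_mem hw), smul_neg]
  rw [show x = w + (x - w) by abel, smul_add, smul_add, smul_add, smul_add, hfix, hfix', hcw]

namespace Conf

variable {F : Form Γ U V q} (C : Conf F)

/-- **The endgame.** -/
theorem sq_eq_of_comm {a d : Γ} (hEa : C.El a) (hEd : C.El (d * a)) (hd : d * d = 1)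
    (h1 : ActComm U d (a * a)) (h2 : ActComm U d ((d * a) * (d * a))) (x : U) :
    (d * a) • (d * a) • x = a • a • x := by
  have hdd : ∀ y : U, d • d • y = y := fun y => by rw [← mul_smul, hd, one_smul]
  rcases hEa.dich with h | ha
  · rcases hEd.dich with h' | hb
    · rw [h', h]
    have hc := hb.comm_of_comm_sq F hd h2
    have h0 := h x
    rw [h0]
    have hy : ∀ y : U, a • y = d • (d * a) • y := fun y => by
      rw [← mul_smul, ← mul_assoc, hd, one_mul]
    rw [hy, hy, ← hc ((d * a) • x), hdd] at h0
    exact h0
  · have hc := ha.comm_of_comm_sq F hd h1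
    rw [mul_smul, mul_smul, hc (d • a • x), hdd]

end Conf

end Cfsg.Agent.Lib.TwoLengthExp
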