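/-
At one weight: the squares `y ^ 2 ^ (e - 1)` act on `P` modulo the radical as squares of plane
elements, so the two-square claim and the endgame apply.
-/
import Cfsg.Agent.Lib.TwoLengthExp.Star
import Cfsg.Agent.Lib.FpfHeight.PlaneExponent

set_option autoImplicit false
set_option linter.style.haveILetI false
set_option linter.unusedSectionVars false

namespace Cfsg.Agent.Lib.TwoLengthExp

open Cfsg.Agent.Lib Cfsg.Agent.Lib.FpfHeight

universe u

variable {H : Type u} [Group H] [Finite H] {k : Type*} [Field k] [IsAlgClosed k] [CharP k 2]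
variable {M : Type*} [AddCommGroup M] [Module k M] [FiniteDimensional k M]

/-- The exponent condition on the `2`-elements. -/
def SumHyp (ρ : H →* Module.End k M) (e : ℕ) : Prop :=
  ∀ x : H, (∃ a : ℕ, x ^ 2 ^ a = 1) →
    x ^ 2 ^ e = 1 ∧ ∑ i ∈ Finset.range (2 ^ e), ρ x ^ i = 0

/-- The top powers of the `2`-elements of `H₀`. -/
def topPowers (e : ℕ) (H₀ : Subgroup H) : Set H :=
  {s | ∃ y ∈ H₀, (∃ a : ℕ, y ^ 2 ^ a = 1) ∧ y ^ 2 ^ (e - 1) = s}

/-- A normal `2`-subgroup `Q` of `H₀` containing the top powers. -/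
structure Setting (e : ℕ) (H₀ Q : Subgroup H) : Prop where
  two_le : 2 ≤ e
  le : Q ≤ H₀
  conj_mem : ∀ h ∈ H₀, ∀ x ∈ Q, h * x * h⁻¹ ∈ Q
  isPGroup : IsPGroup 2 Q
  top_mem : topPowers e H₀ ⊆ Q

theorem ActComm.commutator {Γ U : Type*} [Group Γ] [AddCommGroup U] [DistribMulAction Γ U]
    {s v : Γ} (h : ActComm U s v) (u : U) : (s * v * s⁻¹ * v⁻¹) • u = u := by
  rw [mul_smul, mul_smul, mul_smul, h, smul_inv_smul, smul_inv_smul]

variable {e : ℕ} {H₀ Q : Subgroup H}

theorem Setting.half (hS : Setting e H₀ Q) (y : H) :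
    y ^ 2 ^ (e - 2) * y ^ 2 ^ (e - 2) = y ^ 2 ^ (e - 1) := by
  have := hS.two_le
  rw [← pow_add, ← two_mul, ← pow_succ', show e - 2 + 1 = e - 1 by omega]

theorem Setting.sq {ρ : H →* Module.End k M} (hexp : SumHyp ρ e) (hS : Setting e H₀ Q) {s : H}
    (hs : s ∈ topPowers e H₀) : s * s = 1 := by
  obtain ⟨y, -, hy, rfl⟩ := hs
  have := hS.two_le
  rw [← pow_add, ← two_mul, ← pow_succ', show e - 1 + 1 = e by omega, (hexp y hy).1]

set_option maxHeartbeats 1000000 in
theorem weight_main (ρ : H →* Module.End k M) (hexp : SumHyp ρ e) (hS : Setting e H₀ Q)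
    (P Z : Subgroup H) [P.Normal] [Z.Normal] (hc : PlaneTwo.Central P Z) {q : ℕ} [Fact q.Prime]
    (hq : q ≠ 2) (hP : IsPGroup q P) (hPexp : ∀ p ∈ P, p ^ q ∈ Z)
    (hcen : ∀ s ∈ topPowers e H₀, ∀ z ∈ Z, s * z = z * s)
    (lam : Z →* k) (w : M) (hw0 : w ≠ 0) (hw : ∀ z : Z, ρ (z : H) w = lam z • w)
    (g h : H) (hg : g ∈ H₀) (hh : h ∈ H₀) (hg2 : ∃ a : ℕ, g ^ 2 ^ a = 1)
    (hh2 : ∃ a : ℕ, h ^ 2 ^ a = 1)
    (hX : h ^ 2 ^ (e - 2) * (g ^ 2 ^ (e - 2))⁻¹ ∈ Subgroup.closure (topPowers e H₀)) :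
    (∀ p : P, MulAut.conjNormal (g ^ 2 ^ (e - 1) * h ^ 2 ^ (e - 1) * (g ^ 2 ^ (e - 1))⁻¹ *
        (h ^ 2 ^ (e - 1))⁻¹) p * p⁻¹ ∈ PlaneTwo.radP hc lam) ∧
    (∀ s ∈ topPowers e H₀, ∀ p : P, MulAut.conjNormal (s * (h ^ 2 ^ (e - 1) * g ^ 2 ^ (e - 1)) *
        s⁻¹ * (h ^ 2 ^ (e - 1) * g ^ 2 ^ (e - 1))⁻¹) p * p⁻¹ ∈ PlaneTwo.radP hc lam) ∧
    ((h ^ 2 ^ (e - 2) * (g ^ 2 ^ (e - 2))⁻¹) ^ 2 = 1 →
      Commute (h ^ 2 ^ (e - 2) * (g ^ 2 ^ (e - 2))⁻¹) (g ^ 2 ^ (e - 1)) →
      Commute (h ^ 2 ^ (e - 2) * (g ^ 2 ^ (e - 2))⁻¹) (h ^ 2 ^ (e - 1)) →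
      ∀ p : P, MulAut.conjNormal (h ^ 2 ^ (e - 1) * g ^ 2 ^ (e - 1)) p * p⁻¹ ∈
        PlaneTwo.radP hc lam) := by
  classical
  have he := hS.two_le
  haveI hRn := PlaneTwo.radP_normal hc lam
  set R := PlaneTwo.radP hc lam with hR
  let Γ : Subgroup H :=
    { carrier := {g | g ∈ H₀ ∧ ∀ z : Z, lam (MulAut.conjNormal g z) = lam z}
      one_mem' := ⟨one_mem _, fun z => by rw [map_one]; rfl⟩
      mul_mem' := fun {g g'} hg hg' => ⟨mul_mem hg.1 hg'.1, fun z => by
        rw [map_mul, MulAut.mul_apply, hg.2, hg'.2]⟩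
      inv_mem' := fun {g} hg => ⟨inv_mem hg.1, fun z => by
        have h := hg.2 (MulAut.conjNormal g⁻¹ z)
        rw [← MulAut.mul_apply, ← map_mul, mul_inv_cancel, map_one] at h
        exact h.symm⟩ }
  have htopΓ : topPowers e H₀ ⊆ Γ := fun s hs => ⟨hS.le (hS.top_mem hs), fun z =>
    congrArg lam (Subtype.ext (by
      rw [MulAut.conjNormal_apply, hcen s hs z z.2, mul_inv_cancel_right]))⟩
  have hNΓ : Subgroup.closure (topPowers e H₀) ≤ Γ := (Subgroup.closure_le _).mpr htopΓ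
  -- the action
  have hRinv : ∀ g : Γ, ∀ r ∈ R, MulAut.conjNormal (H := P) (g : H) r ∈ R := by
    intro g r hr v
    obtain ⟨v', rfl⟩ := (MulAut.conjNormal (H := P) (g : H)).surjective v
    rw [PlaneTwo.pair, ← hr v', PlaneTwo.pair, ← g.2.2 (PlaneTwo.com hc v' r)]
    refine congrArg lam (Subtype.ext ?_)
    simp only [PlaneTwo.com, MulAut.conjNormal_apply]
    group
  let act : Γ →* MulAut (P ⧸ R) :=
    { toFun := fun g => Basic.quotAut (MulAut.conjNormal (H := P) (g : H)) R (hRinv g)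
      map_one' := MulEquiv.ext fun c => by
        obtain ⟨p, rfl⟩ := QuotientGroup.mk_surjective c
        simp
      map_mul' := fun g g' => MulEquiv.ext fun c => by
        obtain ⟨p, rfl⟩ := QuotientGroup.mk_surjective c
        simp [MulAut.mul_apply] }
  letI : CommGroup (P ⧸ R) :=
    { (inferInstance : Group (P ⧸ R)) with
      mul_comm := fun a b => by
        obtain ⟨a, rfl⟩ := QuotientGroup.mk_surjective a
        obtain ⟨b, rfl⟩ := QuotientGroup.mk_surjective b
        rw [← QuotientGroup.mk_mul, ← QuotientGroup.mk_mul, QuotientGroup.eq]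
        refine PlaneTwo.mem_radP_of_mem hc lam ?_
        rw [show ((a * b)⁻¹ * (b * a) : P) = (b⁻¹ * a⁻¹ * b⁻¹⁻¹ * a⁻¹⁻¹ : P) by group]
        exact hc.comm _ (P.inv_mem b.2) _ (P.inv_mem a.2) }
  let U := Additive (P ⧸ R)
  letI : DistribMulAction Γ U :=
    { smul := fun g u => Additive.ofMul (act g (Additive.toMul u))
      one_smul := fun u => by
        change Additive.ofMul (act 1 (Additive.toMul u)) = u
        rw [map_one]; rfl
      mul_smul := fun g g' u => by
        change Additive.ofMul (act (g * g') (Additive.toMul u)) = _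
        rw [map_mul]; rfl
      smul_zero := fun g => by
        change Additive.ofMul (act g 1) = _
        rw [map_one]; rfl
      smul_add := fun g u v => by
        change Additive.ofMul (act g (Additive.toMul u * Additive.toMul v)) = _
        rw [map_mul]; rfl }
  have hsurj : ∀ u : U, ∃ p : P, Additive.ofMul (p : P ⧸ R) = u := fun u => by
    obtain ⟨p, hp⟩ := QuotientGroup.mk_surjective (Additive.toMul u)
    exact ⟨p, by rw [hp]; rfl⟩
  have hsm : ∀ (g : Γ) (p : P), g • (Additive.ofMul (p : P ⧸ R) : U) =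
      Additive.ofMul ((MulAut.conjNormal (H := P) (g : H) p : P) : P ⧸ R) := fun g p => rfl
  have hsub : ∀ (g : Γ) (p : P), g • (Additive.ofMul (p : P ⧸ R) : U) -
      Additive.ofMul (p : P ⧸ R) =
      Additive.ofMul ((MulAut.conjNormal (H := P) (g : H) p * p⁻¹ : P) : P ⧸ R) := fun g p => by
    rw [hsm, QuotientGroup.mk_mul, QuotientGroup.mk_inv, ← div_eq_mul_inv]
    rfl
  have htriv : ∀ g : Γ, (∀ u : U, g • u = u) →
      ∀ p : P, MulAut.conjNormal (H := P) (g : H) p * p⁻¹ ∈ R := fun g hu p => by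
    have h := hsub g p
    rw [hu, sub_self] at h
    exact (QuotientGroup.eq_one_iff _).mp (congrArg Additive.toMul h).symm
  have htriv' : ∀ g : Γ, (∀ p : P, MulAut.conjNormal (H := P) (g : H) p * p⁻¹ ∈ R) →
      ∀ u : U, g • u = u := fun g hp u => by
    obtain ⟨p, rfl⟩ := hsurj u
    refine sub_eq_zero.mp ((hsub g p).trans ?_)
    rw [(QuotientGroup.eq_one_iff _).mpr (hp p)]
    rfl
  -- the form
  have hcoe : ∀ z : Z, ((lam.toHomUnits z : kˣ) : k) = lam z := fun z => rfl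
  let φ : P →* (P ⧸ R →* kˣ) :=
    { toFun := fun p => QuotientGroup.lift R
        { toFun := fun v => lam.toHomUnits (PlaneTwo.com hc p v)
          map_one' := by rw [PlaneTwo.com_one_right, map_one]
          map_mul' := fun v v' => by rw [PlaneTwo.com_mul_right, map_mul] }
        (fun r hr => MonoidHom.mem_ker.mpr (Units.ext (hr p)))
      map_one' := MonoidHom.ext fun c => by
        obtain ⟨v, rfl⟩ := QuotientGroup.mk_surjective c
        refine Units.ext ?_
        change lam (PlaneTwo.com hc 1 v) = 1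
        rw [show PlaneTwo.com hc 1 v = 1 from Subtype.ext (by simp [PlaneTwo.com]), map_one]
      map_mul' := fun p p' => MonoidHom.ext fun c => by
        obtain ⟨v, rfl⟩ := QuotientGroup.mk_surjective c
        exact Units.ext (PlaneTwo.pair_mul_left hc lam p p' v) }
  let Φ : P ⧸ R →* (P ⧸ R →* kˣ) := QuotientGroup.lift R φ fun r hr =>
    MonoidHom.mem_ker.mpr (MonoidHom.ext fun c => by
      obtain ⟨v, rfl⟩ := QuotientGroup.mk_surjective c
      refine Units.ext ?_
      change PlaneTwo.pair hc lam r v = 1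
      have h := PlaneTwo.pair_swap hc lam r v
      rwa [hr v, mul_one] at h)
  have hΦ : ∀ p v : P, ((Φ (p : P ⧸ R) (v : P ⧸ R) : kˣ) : k) = PlaneTwo.pair hc lam p v :=
    fun p v => rfl
  let F : Form Γ U (Additive kˣ) q :=
    { f :=
        { toFun := fun u => MonoidHom.toAdditive (Φ (Additive.toMul u))
          map_zero' := AddMonoidHom.ext fun v => by
            change Additive.ofMul (Φ 1 (Additive.toMul v)) = 0
            rw [map_one]; rfl
          map_add' := fun u u' => AddMonoidHom.ext fun v => by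
            change Additive.ofMul (Φ (Additive.toMul u * Additive.toMul u') (Additive.toMul v)) = _
            rw [map_mul]; rfl }
      prime := Fact.out
      ne_two := hq
      alt := fun u => by
        obtain ⟨p, rfl⟩ := hsurj u
        refine congrArg Additive.ofMul (Units.ext ?_ : Φ (p : P ⧸ R) (p : P ⧸ R) = 1)
        rw [hΦ, PlaneTwo.pair, PlaneTwo.com_self, map_one]
        rfl
      nondeg := fun u hu => by
        obtain ⟨p, rfl⟩ := hsurj u
        refine congrArg Additive.ofMul ((QuotientGroup.eq_one_iff p).mpr fun v => ?_)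
        have h : ((Φ (p : P ⧸ R) (v : P ⧸ R) : kˣ) : k) = 1 := congrArg Units.val
          (congrArg Additive.toMul (hu (Additive.ofMul (v : P ⧸ R))) :)
        rw [hΦ] at h
        have h2 := PlaneTwo.pair_swap hc lam v p
        rwa [h, mul_one] at h2
      inv := fun g u v => by
        obtain ⟨p, rfl⟩ := hsurj u
        obtain ⟨p', rfl⟩ := hsurj v
        rw [hsm, hsm]
        refine congrArg Additive.ofMul (Units.ext ?_ : Φ _ _ = Φ (p : P ⧸ R) (p' : P ⧸ R))
        simp only [toMul_ofMul]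
        rw [hΦ, hΦ, PlaneTwo.pair, PlaneTwo.pair, ← g.2.2 (PlaneTwo.com hc p p')]
        refine congrArg lam (Subtype.ext ?_)
        simp only [PlaneTwo.com, MulAut.conjNormal_apply]
        group
      expU := fun u => by
        obtain ⟨p, rfl⟩ := hsurj u
        change Additive.ofMul ((p : P ⧸ R) ^ q) = Additive.ofMul 1
        rw [← QuotientGroup.mk_pow, (QuotientGroup.eq_one_iff _).mpr
          (PlaneTwo.mem_radP_of_mem hc lam (by rw [Subgroup.coe_pow]; exact hPexp p p.2))] }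
  -- a `2`-element gives a trivial square or a plane element
  have key : ∀ y : H, y ∈ H₀ → (∃ a : ℕ, y ^ 2 ^ a = 1) →
      (∀ p : P, MulAut.conjNormal (H := P) (y ^ 2 ^ (e - 1)) p * p⁻¹ ∈ R) ∨
        ∃ hm : y ^ 2 ^ (e - 2) ∈ Γ, IsPlane q U (⟨_, hm⟩ : Γ) := by
    intro y hy hy2
    obtain ⟨hye, hys⟩ := hexp y hy2
    rcases PlaneTwo.plane_or_fixed ρ y e hye hys P Z hc hq hP (MulAut.conjNormal y)
        (fun p => MulAut.conjNormal_apply y p) (MulAut.conjNormal y)
        (fun z => MulAut.conjNormal_apply y z) lam w hw0 hw with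
      hfix | ⟨-, hlam, A, hRA, hA, hyA, htA⟩
    · exact Or.inl fun p => by rw [map_pow]; exact hfix p
    have hm : y ^ 2 ^ (e - 2) ∈ Γ := ⟨pow_mem hy _, fun z => by rw [map_pow]; exact hlam z⟩
    set a : Γ := ⟨_, hm⟩ with ha
    by_cases hbot : plane U a = ⊥
    · refine Or.inl ?_
      have hau : ∀ u : U, a • u = u := fun u => sub_eq_zero.mp (AddSubgroup.mem_bot.mp
        (hbot ▸ sub_mem_plane a u))
      have h := htriv (a * a) fun u => by rw [mul_smul, hau, hau]
      simpa only [Subgroup.coe_mul, ha, hS.half y] using h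
    refine Or.inr ⟨hm, ?_, ?_, hbot⟩
    · rintro x ⟨u, rfl⟩
      obtain ⟨p, rfl⟩ := hsurj u
      change a • a • (a • (Additive.ofMul (p : P ⧸ R) : U) - Additive.ofMul (p : P ⧸ R)) =
        -(a • (Additive.ofMul (p : P ⧸ R) : U) - Additive.ofMul (p : P ⧸ R))
      rw [hsub, ← mul_smul, hsm]
      refine eq_neg_of_add_eq_zero_left ?_
      set a' := MulAut.conjNormal (H := P) (a : H) p * p⁻¹ with ha'
      have haA : a' ∈ A := by rw [ha', ha, map_pow]; exact hyA p
      have h1 := (QuotientGroup.eq_one_iff _).mpr (htA a' haA)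
      rw [QuotientGroup.mk_mul] at h1
      have h2 : MulAut.conjNormal (H := P) ((a * a : Γ) : H) =
          (MulAut.conjNormal (H := P) y) ^ 2 ^ (e - 1) := by
        rw [Subgroup.coe_mul, ha, hS.half y, map_pow]
      rw [h2]
      exact congrArg Additive.ofMul h1
    · have hle : plane U a ≤ Subgroup.toAddSubgroup (A.map (QuotientGroup.mk' R)) := by
        rintro x ⟨u, rfl⟩
        obtain ⟨p, rfl⟩ := hsurj u
        change a • (Additive.ofMul (p : P ⧸ R) : U) - Additive.ofMul (p : P ⧸ R) ∈ _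
        rw [hsub]
        refine ⟨_, ?_, rfl⟩
        rw [ha, map_pow]
        exact hyA p
      have h := Subgroup.relIndex_ker (K := A) (QuotientGroup.mk' R)
      rw [QuotientGroup.ker_mk', hA] at h
      rw [h]
      exact (Nat.card_le_card_of_injective _ (AddSubgroup.inclusion_injective hle)).trans_eq
        (Nat.card_congr Additive.toMul)
  -- the configuration
  let C : Conf F :=
    { Q := Q.subgroupOf Γ
      normal := ⟨fun x hx g => hS.conj_mem _ g.2.1 _ hx⟩
      isPGroup := hS.isPGroup.comap_of_injective Γ.subtype Γ.subtype_injective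
      S := {s | (s : H) ∈ topPowers e H₀}
      sub := fun s hs => hS.top_mem hs
      sq := fun s hs => Subtype.ext (hS.sq hexp hs)
      dich := fun s hs => by
        obtain ⟨y, hy, hy2, hys⟩ := hs
        rcases key y hy hy2 with h | ⟨hm, hpl⟩
        · exact Or.inl (htriv' s (by rwa [hys] at h))
        · refine Or.inr ⟨_, hpl, fun z => ⟨e, ?_⟩, fun x => ?_⟩
          · obtain ⟨i, hi⟩ := Subgroup.mem_zpowers_iff.mp z.2
            refine Subtype.ext (Subtype.ext ?_)
            rw [Subgroup.coe_pow, ← hi]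
            change ((y ^ 2 ^ (e - 2)) ^ i) ^ 2 ^ e = 1
            rw [← zpow_natCast, ← zpow_mul, mul_comm, zpow_mul, zpow_natCast, ← pow_mul, mul_comm,
              pow_mul, (hexp y hy2).1, one_pow, one_zpow]
          · rw [← mul_smul]
            congr 1
            exact Subtype.ext (by rw [← hys, Subgroup.coe_mul, hS.half y]) }
  have hel : ∀ (y : H), y ∈ H₀ → (∃ a : ℕ, y ^ 2 ^ a = 1) → ∀ hm : y ^ 2 ^ (e - 2) ∈ Γ,
      C.El ⟨_, hm⟩ := by
    intro y hy hy2 hm
    refine ⟨fun z => ⟨e, ?_⟩, ?_, ?_⟩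
    · obtain ⟨i, hi⟩ := Subgroup.mem_zpowers_iff.mp z.2
      refine Subtype.ext (Subtype.ext ?_)
      rw [Subgroup.coe_pow, ← hi]
      change ((y ^ 2 ^ (e - 2)) ^ i) ^ 2 ^ e = 1
      rw [← zpow_natCast, ← zpow_mul, mul_comm, zpow_mul, zpow_natCast, ← pow_mul, mul_comm,
        pow_mul, (hexp y hy2).1, one_pow, one_zpow]
    · exact ⟨y, hy, hy2, (hS.half y).symm⟩
    · rcases key y hy hy2 with h | ⟨hm', hpl⟩
      · refine Or.inl fun u => ?_
        rw [← mul_smul]
        exact htriv' _ (by rwa [Subgroup.coe_mul, hS.half y]) u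
      · exact Or.inr hpl
  have hgn : g ^ 2 ^ (e - 1) ∈ topPowers e H₀ := ⟨g, hg, hg2, rfl⟩
  have hhn : h ^ 2 ^ (e - 1) ∈ topPowers e H₀ := ⟨h, hh, hh2, rfl⟩
  obtain ⟨c, hcv⟩ : ∃ c : Γ, (c : H) = g ^ 2 ^ (e - 1) := ⟨⟨_, htopΓ hgn⟩, rfl⟩
  obtain ⟨c', hcv'⟩ : ∃ c : Γ, (c : H) = h ^ 2 ^ (e - 1) := ⟨⟨_, htopΓ hhn⟩, rfl⟩
  by_cases hgm : g ^ 2 ^ (e - 2) ∈ Γ
  · have hhm : h ^ 2 ^ (e - 2) ∈ Γ := by
      have := mul_mem (hNΓ hX) hgm
      rwa [inv_mul_cancel_right] at this
    set a : Γ := ⟨_, hgm⟩ with hadef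
    set b : Γ := ⟨_, hhm⟩ with hbdef
    have haa : a * a = c := Subtype.ext ((hS.half g).trans hcv.symm)
    have hbb : b * b = c' := Subtype.ext ((hS.half h).trans hcv'.symm)
    have hXmem : b * a⁻¹ ∈ Subgroup.closure C.S := by
      have hle : Subgroup.closure (topPowers e H₀) ≤ (Subgroup.closure C.S).map Γ.subtype :=
        (Subgroup.closure_le _).mpr fun s hs =>
          ⟨⟨s, htopΓ hs⟩, Subgroup.subset_closure hs, rfl⟩
      obtain ⟨x, hx, hxe⟩ := hle hX
      rwa [show x = b * a⁻¹ from Subtype.ext hxe] at hx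
    have hEa : C.El a := hel g hg hg2 hgm
    have hEb : C.El (b * a⁻¹ * a) := by rw [inv_mul_cancel_right]; exact hel h hh hh2 hhm
    have h1 := C.squares_comm hEa hXmem hEb
    rw [inv_mul_cancel_right, haa, hbb] at h1
    refine ⟨fun p => ?_, fun s hs p => ?_, fun hd hdc hdc' p => ?_⟩
    · simpa only [Subgroup.coe_mul, Subgroup.coe_inv, hcv, hcv'] using
        htriv (c * c' * c⁻¹ * c'⁻¹) (fun u => h1.commutator u) p
    · obtain ⟨z, rfl⟩ : ∃ z : Γ, (z : H) = s := ⟨⟨s, htopΓ hs⟩, rfl⟩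
      have h2 := C.comm_mul_squares hEa hXmem hEb (z := z) hs
      rw [inv_mul_cancel_right, haa, hbb] at h2
      simpa only [Subgroup.coe_mul, Subgroup.coe_inv, hcv, hcv'] using
        htriv (z * (c' * c) * z⁻¹ * (c' * c)⁻¹) (fun u => h2.commutator u) p
    · have hcomm : ∀ {v : Γ}, Commute ((b * a⁻¹ : Γ) : H) (v : H) → ActComm U (b * a⁻¹) v :=
        fun {v} hv u => by
          rw [← mul_smul, ← mul_smul]
          exact congrArg (· • u) (Subtype.ext hv.eq)
      have h2 := C.sq_eq_of_comm hEa hEb (Subtype.ext (by rw [← pow_two]; exact hd))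
        (hcomm (by rw [haa, hcv]; exact hdc))
        (hcomm (by rw [inv_mul_cancel_right, hbb, hcv']; exact hdc'))
      suffices hu : ∀ u : U, (c' * c) • u = u by
        simpa only [Subgroup.coe_mul, hcv, hcv'] using htriv (c' * c) hu p
      intro u
      have h3 := h2 (c • u)
      rw [inv_mul_cancel_right, ← mul_smul, ← mul_smul, hbb] at h3
      have : c * c = 1 := Subtype.ext (by rw [Subgroup.coe_mul, hcv]; exact hS.sq hexp hgn)
      rw [h3, ← mul_smul a a, haa, ← mul_smul, this, one_smul]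
  · have hhm : h ^ 2 ^ (e - 2) ∉ Γ := fun hhm => hgm (by
      have := mul_mem (inv_mem (hNΓ hX)) hhm
      rwa [mul_inv_rev, inv_inv, mul_assoc, inv_mul_cancel, mul_one] at this)
    have hcu : ∀ u : U, c • u = u := htriv' c (by
      rw [hcv]; exact (key g hg hg2).resolve_right fun ⟨hm, _⟩ => hgm hm)
    have hcu' : ∀ u : U, c' • u = u := htriv' c' (by
      rw [hcv']; exact (key h hh hh2).resolve_right fun ⟨hm, _⟩ => hhm hm)
    have hinv : ∀ (v : Γ), (∀ u : U, v • u = u) → ∀ u : U, v⁻¹ • u = u := fun v hv u => by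
      nth_rw 1 [← hv u]
      rw [inv_smul_smul]
    refine ⟨fun p => ?_, fun s hs p => ?_, fun _ _ _ p => ?_⟩
    · simpa only [Subgroup.coe_mul, Subgroup.coe_inv, hcv, hcv'] using
        htriv (c * c' * c⁻¹ * c'⁻¹) (fun u => by
          simp only [mul_smul, hcu, hcu', hinv c hcu, hinv c' hcu']) p
    · obtain ⟨z, rfl⟩ : ∃ z : Γ, (z : H) = s := ⟨⟨s, htopΓ hs⟩, rfl⟩
      simpa only [Subgroup.coe_mul, Subgroup.coe_inv, hcv, hcv'] using
        htriv (z * (c' * c) * z⁻¹ * (c' * c)⁻¹) (fun u => by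
          simp only [mul_inv_rev, mul_smul, hcu, hcu', hinv c hcu, hinv c' hcu', smul_inv_smul]) p
    · simpa only [Subgroup.coe_mul, hcv, hcv'] using
        htriv (c' * c) (fun u => by rw [mul_smul, hcu, hcu']) p

end Cfsg.Agent.Lib.TwoLengthExp
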