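/-
Twisted products land in any irreducible section: for a `2`-element `g` normalising an irreducible
section `X / Y` of the normal `2`-group, the product of the first `2 ^ (e - 1)` conjugates of any
element of `X` lies in `Y`.
-/
import Cfsg.Agent.Lib.TwoLengthExp.Weight
import Cfsg.Agent.Lib.TwoLengthExp.Frame

set_option autoImplicit false
set_option linter.style.haveILetI false
set_option linter.unusedSectionVars false

namespace Cfsg.Agent.Lib.TwoLengthExp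

open Cfsg.Agent.Lib Cfsg.Agent.Lib.FpfHeight

universe u

variable {H : Type u} [Group H] [Finite H]

theorem twist_mem {W : Subgroup H} {g x : H} (hx : x ∈ W) (hg : ∀ v ∈ W, g * v * g⁻¹ ∈ W)
    (n : ℕ) : (x * g) ^ n * (g ^ n)⁻¹ ∈ W := by
  have hgn : ∀ n : ℕ, g ^ n * x * (g ^ n)⁻¹ ∈ W := by
    intro n
    induction n with
    | zero => simpa using hx
    | succ n ih =>
      rw [show g ^ (n + 1) * x * (g ^ (n + 1))⁻¹ = g * (g ^ n * x * (g ^ n)⁻¹) * g⁻¹ by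
        rw [pow_succ']; group]
      exact hg _ ih
  induction n with
  | zero => simp
  | succ n ih =>
    rw [show (x * g) ^ (n + 1) * (g ^ (n + 1))⁻¹ =
        ((x * g) ^ n * (g ^ n)⁻¹) * (g ^ n * x * (g ^ n)⁻¹) by
      rw [pow_succ, pow_succ]; group]
    exact mul_mem ih (hgn n)

/-- Invariance under `H₀`. -/
def Inv (H₀ W : Subgroup H) : Prop := ∀ h ∈ H₀, ∀ v ∈ W, h * v * h⁻¹ ∈ W

variable {k : Type*} [Field k] [IsAlgClosed k] [CharP k 2]
variable {M : Type*} [AddCommGroup M] [Module k M] [FiniteDimensional k M]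
variable {e : ℕ} {H₀ Q : Subgroup H}

/-- An invariant subgroup meeting `X` outside `Y` covers an irreducible section `X / Y`. -/
theorem cover {X Y : Subgroup H} (hYX : Y ≤ X) (hX0 : X ≤ H₀) (hX : Inv H₀ X) (hY : Inv H₀ Y)
    (hirr : ∀ W : Subgroup H, Y ≤ W → W ≤ X → Inv H₀ W → W = Y ∨ W = X)
    {D : Subgroup H} (hD : Inv H₀ D) {w : H} (hwX : w ∈ X) (hwD : w ∈ D) (hwY : w ∉ Y)
    {x : H} (hx : x ∈ X) : ∃ y ∈ Y, ∃ v ∈ X, v ∈ D ∧ y * v = x := by
  let W : Subgroup H :=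
    { carrier := {t | ∃ y ∈ Y, ∃ v ∈ X, v ∈ D ∧ y * v = t}
      one_mem' := ⟨1, one_mem _, 1, one_mem _, one_mem _, mul_one _⟩
      mul_mem' := by
        rintro _ _ ⟨y, hy, v, hv, hvD, rfl⟩ ⟨y', hy', v', hv', hvD', rfl⟩
        exact ⟨y * (v * y' * v⁻¹), mul_mem hy (hY v (hX0 hv) y' hy'), v * v', mul_mem hv hv',
          mul_mem hvD hvD', by group⟩
      inv_mem' := by
        rintro _ ⟨y, hy, v, hv, hvD, rfl⟩
        exact ⟨v⁻¹ * y⁻¹ * v⁻¹⁻¹, hY _ (inv_mem (hX0 hv)) _ (inv_mem hy), v⁻¹, inv_mem hv,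
          inv_mem hvD, by group⟩ }
  have hW : W = X := by
    refine (hirr W (fun y hy => ⟨y, hy, 1, one_mem _, one_mem _, mul_one _⟩) ?_ ?_).resolve_left
      fun h => hwY (h ▸ (⟨1, one_mem _, w, hwX, hwD, one_mul _⟩ : w ∈ W))
    · rintro _ ⟨y, hy, v, hv, -, rfl⟩
      exact mul_mem (hYX hy) hv
    · rintro h hh _ ⟨y, hy, v, hv, hvD, rfl⟩
      exact ⟨_, hY h hh y hy, _, hX h hh v hv, hD h hh v hvD, by group⟩
  rw [← hW] at hx
  exact hx

theorem Setting.two_el_mul (hS : Setting e H₀ Q) {x g : H} (hx : x ∈ Q) (hg : g ∈ H₀)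
    (hg2 : ∃ a : ℕ, g ^ 2 ^ a = 1) : ∃ a : ℕ, (x * g) ^ 2 ^ a = 1 := by
  obtain ⟨a, ha⟩ := hg2
  have h := twist_mem hx (hS.conj_mem g hg) (2 ^ a)
  rw [ha, inv_one, mul_one] at h
  obtain ⟨b, hb⟩ := hS.isPGroup ⟨_, h⟩
  refine ⟨a + b, ?_⟩
  rw [pow_add, pow_mul]
  exact congrArg Subtype.val hb

theorem inv_closure_topPowers : Inv H₀ (Subgroup.closure (topPowers e H₀)) := by
  intro h hh v hv
  induction hv using Subgroup.closure_induction with
  | mem s hs =>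
    obtain ⟨y, hy, ⟨a, ha⟩, rfl⟩ := hs
    refine Subgroup.subset_closure ⟨h * y * h⁻¹, mul_mem (mul_mem hh hy) (inv_mem hh),
      ⟨a, by rw [conj_pow, ha, mul_one, mul_inv_cancel]⟩, conj_pow⟩
  | one => simp
  | mul s t _ _ hs ht =>
    rw [show h * (s * t) * h⁻¹ = (h * s * h⁻¹) * (h * t * h⁻¹) by group]
    exact mul_mem hs ht
  | inv s _ hs =>
    rw [show h * s⁻¹ * h⁻¹ = (h * s * h⁻¹)⁻¹ by group]
    exact inv_mem hs

/-- **The key step.** -/
theorem prod_mem (ρ : H →* Module.End k M) (hρ : Function.Injective ρ) (hexp : SumHyp ρ e)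
    (F : Frame ρ) (hS : Setting e H₀ Q) (X Y : Subgroup H) (hXQ : X ≤ Q) (hYX : Y ≤ X)
    (hX : Inv H₀ X) (hY : Inv H₀ Y)
    (hirr : ∀ W : Subgroup H, Y ≤ W → W ≤ X → Inv H₀ W → W = Y ∨ W = X)
    {g x : H} (hg : g ∈ H₀) (hg2 : ∃ a : ℕ, g ^ 2 ^ a = 1) (hx : x ∈ X) :
    (x * g) ^ 2 ^ (e - 1) * (g ^ 2 ^ (e - 1))⁻¹ ∈ Y := by
  by_contra hP
  set n := 2 ^ (e - 1) with hn
  set N := Subgroup.closure (topPowers e H₀) with hNdef
  have hNQ : N ≤ Q := (Subgroup.closure_le _).mpr hS.top_mem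
  have hN : Inv H₀ N := inv_closure_topPowers
  have hX0 : X ≤ H₀ := hXQ.trans hS.le
  have hY0 : Y ≤ H₀ := hYX.trans hX0
  -- changing the representative
  have hchange : ∀ y ∈ Y, ∀ v ∈ X, (y * v * g) ^ n * (g ^ n)⁻¹ ∉ Y →
      (v * g) ^ n * (g ^ n)⁻¹ ∉ Y := by
    intro y hy v hv hne hv'
    refine hne ?_
    rw [show (y * v * g) ^ n * (g ^ n)⁻¹ =
        ((y * (v * g)) ^ n * ((v * g) ^ n)⁻¹) * ((v * g) ^ n * (g ^ n)⁻¹) by
      rw [mul_assoc y v g]; group]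
    exact mul_mem (twist_mem hy (hY _ (mul_mem (hX0 hv) hg)) n) hv'
  have htop : ∀ v ∈ X, (v * g) ^ n ∈ topPowers e H₀ := fun v hv =>
    ⟨v * g, mul_mem (hX0 hv) hg, hS.two_el_mul (hXQ hv) hg hg2, rfl⟩
  have hgn : g ^ n ∈ topPowers e H₀ := ⟨g, hg, hg2, rfl⟩
  -- faithfulness
  have hcenZ : ∀ (i : Idx), ∀ s ∈ topPowers e H₀, ∀ z ∈ F.Z i, s * z = z * s := by
    rintro i _ ⟨y, -, hy, rfl⟩ z hz
    haveI := F.normalZ i
    obtain ⟨hye, hys⟩ := hexp y hy
    exact PlaneExponent.centralizes_abelian ρ hρ y e hye (by have := hS.two_le; omega) hys (F.Z i)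
      (F.odd i) (F.abelian i) (fun a ha => (F.normalZ i).conj_mem a ha y) z hz
  have hfaith : ∀ t ∈ N, (∀ i : Idx, ∀ (lam : F.Z i →* k) (w : M), w ≠ 0 →
      (∀ z : F.Z i, ρ (z : H) w = lam z • w) → ∀ p : F.P i, haveI := F.normalP i
      MulAut.conjNormal t p * p⁻¹ ∈ PlaneTwo.radP (F.central i) lam) → t = 1 := by
    intro t ht htriv
    refine F.faithful t ?_ (fun i z hz => ?_) htriv
    · obtain ⟨a, ha⟩ := hS.isPGroup ⟨t, hNQ ht⟩
      exact ⟨a, congrArg Subtype.val ha⟩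
    · have hle : N ≤ Subgroup.centralizer {z} := (Subgroup.closure_le _).mpr fun s hs =>
        Subgroup.mem_centralizer_singleton_iff.mpr (hcenZ i s hs z hz)
      exact Subgroup.mem_centralizer_singleton_iff.mp (hle ht)
  have hmain := fun (i : Idx) (lam : F.Z i →* k) (w : M) (hw0 : w ≠ 0)
      (hw : ∀ z : F.Z i, ρ (z : H) w = lam z • w) (v : H) (hv : v ∈ X)
      (hd : (v * g) ^ 2 ^ (e - 2) * (g ^ 2 ^ (e - 2))⁻¹ ∈ N) =>
    haveI := F.normalP i
    haveI := F.normalZ i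
    haveI : Fact (i : ℕ).Prime := ⟨i.2.1⟩
    weight_main ρ hexp hS (F.P i) (F.Z i) (F.central i) i.2.2 (F.isPGroup i) (F.pow_mem i)
      (hcenZ i) lam w hw0 hw g (v * g) hg (mul_mem (hX0 hv) hg) hg2
      (hS.two_el_mul (hXQ hv) hg hg2) hd
  -- `x` may be taken in `N`
  have hwN : ∀ v ∈ X, (v * g) ^ n * (g ^ n)⁻¹ ∈ N := fun v hv =>
    mul_mem (Subgroup.subset_closure (htop v hv)) (inv_mem (Subgroup.subset_closure hgn))
  obtain ⟨y, hy, v, hv, hvN, rfl⟩ := cover hYX hX0 hX hY hirr hN (twist_mem hx (hX g hg) n)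
    (hwN x hx) hP hx
  have hP := hchange y hy v hv hP
  have hd := twist_mem hvN (hN g hg) (2 ^ (e - 2))
  set c := g ^ n with hc
  set c' := (v * g) ^ n with hc'
  have hcN : c ∈ N := Subgroup.subset_closure hgn
  have hc'N : c' ∈ N := Subgroup.subset_closure (htop v hv)
  have hcinv : ∀ {s : H}, s ∈ topPowers e H₀ → s⁻¹ = s := fun hs =>
    inv_eq_of_mul_eq_one_right (hS.sq hexp hs)
  have hcc : c * c' = c' * c := by
    have h := hfaith (c * c' * c⁻¹ * c'⁻¹)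
      (mul_mem (mul_mem (mul_mem hcN hc'N) (inv_mem hcN)) (inv_mem hc'N))
      fun i lam w hw0 hw => (hmain i lam w hw0 hw v hv hd).1
    exact mul_inv_eq_iff_eq_mul.mp (mul_inv_eq_one.mp h)
  let D : Subgroup H :=
    { carrier := {d | d ∈ N ∧ (∀ s ∈ N, s * d = d * s) ∧ d * d = 1}
      one_mem' := ⟨one_mem _, fun s _ => by simp, one_mul _⟩
      mul_mem' := fun {a b} ha hb => ⟨mul_mem ha.1 hb.1, fun s hs => by
        rw [← mul_assoc, ha.2.1 s hs, mul_assoc, hb.2.1 s hs, ← mul_assoc], by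
        rw [show a * b * (a * b) = a * (b * a) * b by group, hb.2.1 a ha.1 |>.symm,
          show a * (a * b) * b = (a * a) * (b * b) by group, ha.2.2, hb.2.2, one_mul]⟩
      inv_mem' := fun {a} ha => by rw [inv_eq_of_mul_eq_one_right ha.2.2]; exact ha }
  have hD : Inv H₀ D := fun h hh d hd => ⟨hN h hh d hd.1, fun s hs => by
    have h1 := hd.2.1 (h⁻¹ * s * h⁻¹⁻¹) (hN _ (inv_mem hh) s hs)
    calc s * (h * d * h⁻¹) = h * (h⁻¹ * s * h⁻¹⁻¹ * d) * h⁻¹ := by group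
      _ = h * (d * (h⁻¹ * s * h⁻¹⁻¹)) * h⁻¹ := by rw [h1]
      _ = h * d * h⁻¹ * s := by group, by
    rw [show h * d * h⁻¹ * (h * d * h⁻¹) = h * (d * d) * h⁻¹ by group, hd.2.2, mul_one,
      mul_inv_cancel]⟩
  have hw : c' * c⁻¹ = c' * c := by rw [hcinv hgn]
  have hwD : c' * c⁻¹ ∈ D := by
    refine ⟨hwN v hv, fun s hs => ?_, ?_⟩
    · have hle : N ≤ Subgroup.centralizer {c' * c⁻¹} := (Subgroup.closure_le _).mpr fun z hz =>
        Subgroup.mem_centralizer_singleton_iff.mpr (by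
          rw [hw]
          have h := hfaith (z * (c' * c) * z⁻¹ * (c' * c)⁻¹)
            (mul_mem (mul_mem (mul_mem (Subgroup.subset_closure hz) (mul_mem hc'N hcN))
              (inv_mem (Subgroup.subset_closure hz))) (inv_mem (mul_mem hc'N hcN)))
            fun i lam w hw0 hw => (hmain i lam w hw0 hw v hv hd).2.1 z hz
          exact mul_inv_eq_iff_eq_mul.mp (mul_inv_eq_one.mp h))
      exact Subgroup.mem_centralizer_singleton_iff.mp (hle hs)
    · rw [hw, show c' * c * (c' * c) = c' * (c * c') * c by group, hcc,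
        show c' * (c' * c) * c = (c' * c') * (c * c) by group, hS.sq hexp (htop v hv),
        hS.sq hexp hgn, one_mul]
  -- `x` may be taken in `D`
  obtain ⟨y', hy', v', hv', hv'D, rfl⟩ := cover hYX hX0 hX hY hirr hD (twist_mem hv (hX g hg) n)
    hwD hP hv
  have hP' := hchange y' hy' v' hv' hP
  have hd' := twist_mem hv'D (hD g hg) (2 ^ (e - 2))
  refine hP' ?_
  have h := hfaith ((v' * g) ^ n * g ^ n)
    (mul_mem (Subgroup.subset_closure (htop v' hv')) hcN)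
    fun i lam w hw0 hw => (hmain i lam w hw0 hw v' hv' hd'.1).2.2 (by rw [pow_two]; exact hd'.2.2)
      (hd'.2.1 _ hcN).symm (hd'.2.1 _ (Subgroup.subset_closure (htop v' hv'))).symm
  rw [hcinv hgn, h]
  exact one_mem _

end Cfsg.Agent.Lib.TwoLengthExp
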