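/-
Either some irreducible section inside an elementary section `Q / Φ` has an automizer of large
`2`-length, or a normal subgroup with quotient of small `2`-length has all its odd elements
centralising `Q / Φ`.
-/
import Cfsg.Agent.Lib.PSolvable.PLength
import Cfsg.Agent.Lib.FpfHeight.PlaneExponent

set_option autoImplicit false
set_option linter.style.haveILetI false
set_option linter.unusedSectionVars false

namespace Cfsg.Agent.Lib.TwoLengthExp

open Cfsg Cfsg.Agent.Lib Cfsg.Agent.Lib.FpfHeight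

universe u

variable {G : Type u} [Group G]

/-- The centralizer of a normal section `X / Y`. -/
def secCentralizer (X Y : Subgroup G) [X.Normal] [Y.Normal] : Subgroup G where
  carrier := {g | ∀ x ∈ X, g * x * g⁻¹ * x⁻¹ ∈ Y}
  one_mem' x _ := by simp
  mul_mem' {g h} hg hh x hx := by
    have h1 := (inferInstance : Y.Normal).conj_mem _ (hh x hx) g
    rw [show g * h * x * (g * h)⁻¹ * x⁻¹ =
      g * (h * x * h⁻¹ * x⁻¹) * g⁻¹ * (g * x * g⁻¹ * x⁻¹) by group]
    exact mul_mem h1 (hg x hx)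
  inv_mem' {g} hg x hx := by
    have h1 := (inferInstance : Y.Normal).conj_mem _ (inv_mem (hg x hx)) g⁻¹
    rw [show g⁻¹ * x * g⁻¹⁻¹ * x⁻¹ = g⁻¹ * (g * x * g⁻¹ * x⁻¹)⁻¹ * g⁻¹⁻¹ by group]
    exact h1

theorem mem_secCentralizer {X Y : Subgroup G} [X.Normal] [Y.Normal] {g : G} :
    g ∈ secCentralizer X Y ↔ ∀ x ∈ X, g * x * g⁻¹ * x⁻¹ ∈ Y := Iff.rfl

instance secCentralizer_normal (X Y : Subgroup G) [X.Normal] [Y.Normal] :
    (secCentralizer X Y).Normal := ⟨fun g hg a x hx => by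
  have hx' : a⁻¹ * x * a⁻¹⁻¹ ∈ X := (inferInstance : X.Normal).conj_mem x hx a⁻¹
  have h1 := (inferInstance : Y.Normal).conj_mem _ (hg _ hx') a
  rw [show a * g * a⁻¹ * x * (a * g * a⁻¹)⁻¹ * x⁻¹ =
    a * (g * (a⁻¹ * x * a⁻¹⁻¹) * g⁻¹ * (a⁻¹ * x * a⁻¹⁻¹)⁻¹) * a⁻¹ by group]
  exact h1⟩

/-- An irreducible section inside `Q / Φ`. -/
structure IrrSection (Φ Q X Y : Subgroup G) : Prop where
  bot_le : Φ ≤ Y
  lt : Y < X
  le : X ≤ Q
  irr : ∀ W : Subgroup G, W.Normal → Y ≤ W → W ≤ X → W = Y ∨ W = X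

variable [Finite G]

theorem dichotomy (Φ Q : Subgroup G) [Φ.Normal] (hsq : ∀ x ∈ Q, x ^ 2 ∈ Φ) (n : ℕ)
    (X : Subgroup G) [X.Normal] (hΦX : Φ ≤ X) (hXQ : X ≤ Q) :
    (∃ (X' Y' : Subgroup G) (_ : X'.Normal) (_ : Y'.Normal), IrrSection Φ Q X' Y' ∧
        ¬ PLengthLE 2 n (G ⧸ secCentralizer X' Y')) ∨
      ∃ (C : Subgroup G) (_ : C.Normal), PLengthLE 2 n (G ⧸ C) ∧
        ∀ c ∈ C, Odd (orderOf c) → ∀ x ∈ X, c * x * c⁻¹ * x⁻¹ ∈ Φ := by
  haveI : Fact (Nat.Prime 2) := ⟨Nat.prime_two⟩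
  induction hcard : Nat.card X using Nat.strong_induction_on generalizing X with
  | _ m ih =>
  subst hcard
  rcases hΦX.eq_or_lt with heq | hlt
  · refine Or.inr ⟨⊤, inferInstance, PSolvable.pLengthLE_mono (Nat.zero_le n)
      (PSolvable.pLengthLE_zero_iff.mpr ?_), fun c _ _ x hx => ?_⟩
    · rw [show Nat.card (G ⧸ (⊤ : Subgroup G)) = 1 from Subgroup.index_top]
      norm_num
    · rw [← heq] at hx
      exact mul_mem ((inferInstance : Φ.Normal).conj_mem x hx c) (inv_mem hx)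
  set s : Set (Subgroup G) := {W | W.Normal ∧ Φ ≤ W ∧ W < X} with hs
  obtain ⟨Y, hY⟩ := (Set.toFinite s).exists_maximal ⟨Φ, inferInstance, le_rfl, hlt⟩
  obtain ⟨hYn, hΦY, hYX⟩ := hY.prop
  haveI := hYn
  rcases ih _ (lt_of_le_of_ne (Subgroup.card_le_of_le hYX.le) fun h =>
      hYX.ne (Subgroup.eq_of_le_of_card_ge hYX.le h.ge)) Y hΦY (hYX.le.trans hXQ) rfl with
    h | ⟨C, hCn, hC, hCY⟩
  · exact Or.inl h
  haveI := hCn
  by_cases hD : PLengthLE 2 n (G ⧸ secCentralizer X Y)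
  swap
  · refine Or.inl ⟨X, Y, inferInstance, hYn, ⟨hΦY, hYX, hXQ, fun W hW hYW hWX => ?_⟩, hD⟩
    rcases hWX.eq_or_lt with h | h
    · exact Or.inr h
    · exact Or.inl (le_antisymm (hY.le_of_ge ⟨hW, hΦY.trans hYW, h⟩ hYW) hYW)
  set D := secCentralizer X Y with hDdef
  refine Or.inr ⟨C ⊓ D, inferInstance, ?_, fun c hc hodd x hx => ?_⟩
  · set E := C ⊓ D
    haveI : (C.map (QuotientGroup.mk' E)).Normal :=
      Subgroup.Normal.map inferInstance _ (QuotientGroup.mk'_surjective E)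
    haveI : (D.map (QuotientGroup.mk' E)).Normal :=
      Subgroup.Normal.map inferInstance _ (QuotientGroup.mk'_surjective E)
    refine PSolvable.pLengthLE_of_inf_eq_bot (N := C.map (QuotientGroup.mk' E))
      (M := D.map (QuotientGroup.mk' E)) ?_
      (PSolvable.pLengthLE_congr (QuotientGroup.quotientQuotientEquivQuotient E C inf_le_left).symm hC)
      (PSolvable.pLengthLE_congr (QuotientGroup.quotientQuotientEquivQuotient E D inf_le_right).symm hD)
    rw [eq_bot_iff]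
    rintro _ ⟨⟨a, ha, rfl⟩, b, hb, hab⟩
    rw [QuotientGroup.mk'_apply, QuotientGroup.mk'_apply, QuotientGroup.eq] at hab
    rw [Subgroup.mem_bot, QuotientGroup.mk'_apply, QuotientGroup.eq_one_iff]
    refine ⟨ha, ?_⟩
    have h := mul_mem hb (inf_le_right (a := C) hab)
    rwa [mul_inv_cancel_left] at h
  · have hy : c * x * c⁻¹ * x⁻¹ ∈ Y := hc.2 x hx
    set π := QuotientGroup.mk' Φ
    rw [← QuotientGroup.eq_one_iff (N := Φ)]
    refine PlaneExponent.eq_one_of_fixed_conj (h := π c) (x := π x) (n := orderOf c) (m := 2) ?_ ?_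
      ?_ ?_ (Nat.coprime_two_right.mpr hodd)
    · change π c * π _ * (π c)⁻¹ = π _
      refine mul_inv_eq_one.mp ?_
      rw [← map_inv, ← map_inv, ← map_mul, ← map_mul, ← map_mul, QuotientGroup.mk'_apply,
        QuotientGroup.eq_one_iff]
      exact hCY c hc.1 hodd _ hy
    · rw [← map_inv, ← map_mul, ← map_mul]
      change π _ = π _ * π x
      rw [← map_mul]
      congr 1
      group
    · rw [← map_pow, pow_orderOf_eq_one, map_one]
    · rw [← QuotientGroup.mk_pow, QuotientGroup.eq_one_iff]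
      exact hsq _ (hXQ (hYX.le hy))

end Cfsg.Agent.Lib.TwoLengthExp
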