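/-
Bryukhanova: the `2`-length of a `2`-soluble group is at most the exponent of its Sylow
`2`-subgroups.
-/
import Cfsg.Agent.Lib.TwoLengthExp.Product
import Cfsg.Agent.Lib.TwoLengthExp.Sections
import Cfsg.Agent.Lib.Coprime.Commutator
import Cfsg.Agent.Lib.PGroups.Frattini
import Cfsg.Agent.Lib.OddLocal.PStable
import Cfsg.Agent.Lib.OddOrder.FeitThompson
import Cfsg.Agent.S3801

set_option autoImplicit false
set_option linter.style.haveILetI false
set_option linter.unusedSectionVars false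

namespace Cfsg.Agent.Lib.TwoLengthExp

open Cfsg Cfsg.Agent.Lib Cfsg.Agent.Lib.FpfHeight

universe u

abbrev k₂ : Type := AlgebraicClosure (ZMod 2)

/-- The statement proved by induction on the order. -/
def Bound (H : Type u) [Group H] : Prop :=
  pCore 2 H = ⊥ → ∀ (M : Type u) [AddCommGroup M] [Module k₂ M] [FiniteDimensional k₂ M]
    (ρ : H →* Module.End k₂ M), Function.Injective ρ → ∀ e : ℕ, 1 ≤ e → SumHyp ρ e →
      PLengthLE 2 (e - 1) H

variable {H : Type u} [Group H] [Finite H]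

theorem bound_one (M : Type u) [AddCommGroup M] [Module k₂ M]
    (ρ : H →* Module.End k₂ M) (hρ : Function.Injective ρ) (hexp : SumHyp ρ 1) :
    PLengthLE 2 0 H := by
  haveI : Fact (Nat.Prime 2) := ⟨Nat.prime_two⟩
  haveI : CharP k₂ 2 := charP_of_injective_algebraMap (algebraMap (ZMod 2) k₂).injective 2
  refine PSolvable.pLengthLE_zero_iff.mpr fun hd => ?_
  obtain ⟨y, hy⟩ := exists_prime_orderOf_dvd_card' 2 hd
  obtain ⟨-, hs⟩ := hexp y ⟨1, by have h := pow_orderOf_eq_one y; rw [hy] at h; simpa using h⟩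
  rw [pow_one, Finset.sum_range_succ, Finset.sum_range_one, pow_zero, pow_one] at hs
  have h1 : ρ y = 1 := by
    refine LinearMap.ext fun m => ?_
    have h3 := LinearMap.congr_fun hs m
    rw [LinearMap.add_apply, LinearMap.zero_apply, add_eq_zero_iff_eq_neg,
      Module.End.one_apply] at h3
    have h4 : -(ρ y m) = ρ y m := by
      rw [← neg_one_smul k₂, CharTwo.neg_eq, one_smul]
    rw [h4] at h3
    exact h3.symm
  rw [hρ (h1.trans (map_one ρ).symm), orderOf_one] at hy
  norm_num at hy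

set_option maxHeartbeats 1000000 in
/-- An irreducible section of the normal `2`-subgroup has an automizer of small `2`-length. -/
theorem section_bound [Group.IsSolvable H] {e : ℕ} {H₀ Q : Subgroup H} {M : Type u}
    [AddCommGroup M] [Module k₂ M] [FiniteDimensional k₂ M] (ρ : H →* Module.End k₂ M)
    (hρ : Function.Injective ρ) (hexp : SumHyp ρ e) (F : Frame ρ) (hS : Setting e H₀ Q)
    (ih : ∀ (K : Type u) [Group K] [Finite K] [Group.IsSolvable K],
      Nat.card K < Nat.card H → Bound K)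
    (Φ : Subgroup H₀) [Φ.Normal] (hsq : ∀ x ∈ Q.subgroupOf H₀, x ^ 2 ∈ Φ)
    (hcomm : ∀ x ∈ Q.subgroupOf H₀, ∀ y ∈ Q.subgroupOf H₀, x * y * x⁻¹ * y⁻¹ ∈ Φ)
    (X Y : Subgroup H₀) [X.Normal] [Y.Normal] (hsec : IrrSection Φ (Q.subgroupOf H₀) X Y) :
    PLengthLE 2 (e - 2) (H₀ ⧸ secCentralizer X Y) := by
  classical
  haveI : Fact (Nat.Prime 2) := ⟨Nat.prime_two⟩
  haveI : CharP k₂ 2 := charP_of_injective_algebraMap (algebraMap (ZMod 2) k₂).injective 2
  set D := secCentralizer X Y with hD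
  set Q₀ := Q.subgroupOf H₀ with hQ₀
  have hQD : Q₀ ≤ D := fun q hq x hx => hsec.bot_le (hcomm q hq x (hsec.le hx))
  -- the representation on `X / Y`
  haveI : (Y.subgroupOf X).Normal := inferInstance
  have hYinv : ∀ g : H₀, ∀ y ∈ Y.subgroupOf X, MulAut.conjNormal (H := X) g y ∈ Y.subgroupOf X :=
    fun g y hy => by
      rw [Subgroup.mem_subgroupOf, MulAut.conjNormal_apply]
      exact (inferInstance : Y.Normal).conj_mem _ hy g
  letI : CommGroup (X ⧸ Y.subgroupOf X) :=
    { (inferInstance : Group (X ⧸ Y.subgroupOf X)) with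
      mul_comm := fun a b => by
        obtain ⟨a, rfl⟩ := QuotientGroup.mk_surjective a
        obtain ⟨b, rfl⟩ := QuotientGroup.mk_surjective b
        rw [← QuotientGroup.mk_mul, ← QuotientGroup.mk_mul, QuotientGroup.eq,
          Subgroup.mem_subgroupOf]
        refine hsec.bot_le ?_
        simpa [mul_assoc] using hcomm _ (inv_mem (hsec.le b.2)) _ (inv_mem (hsec.le a.2)) }
  set V := Additive (X ⧸ Y.subgroupOf X)
  let act : H₀ →* MulAut (X ⧸ Y.subgroupOf X) :=
    { toFun := fun g => Basic.quotAut (MulAut.conjNormal (H := X) g) _ (hYinv g)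
      map_one' := MulEquiv.ext fun c => by
        obtain ⟨p, rfl⟩ := QuotientGroup.mk_surjective c
        simp
      map_mul' := fun g g' => MulEquiv.ext fun c => by
        obtain ⟨p, rfl⟩ := QuotientGroup.mk_surjective c
        simp [MulAut.mul_apply] }
  let r : H₀ →* AddMonoid.End V := Basic.toEnd.comp act
  have hr : ∀ (g : H₀) (w : X), r g (Additive.ofMul (w : X ⧸ Y.subgroupOf X)) =
      Additive.ofMul ((MulAut.conjNormal g w : X) : X ⧸ Y.subgroupOf X) := fun g w => rfl
  have hsurj : ∀ v : V, ∃ w : X, Additive.ofMul (w : X ⧸ Y.subgroupOf X) = v := fun v => by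
    obtain ⟨w, hw⟩ := QuotientGroup.mk_surjective (Additive.toMul v)
    exact ⟨w, by rw [hw]; rfl⟩
  have heq : ∀ (g : H₀) (w : X), r g (Additive.ofMul (w : X ⧸ Y.subgroupOf X)) =
      Additive.ofMul (w : X ⧸ Y.subgroupOf X) ↔ g * w * g⁻¹ * (w : H₀)⁻¹ ∈ Y := fun g w => by
    rw [hr, Additive.ofMul.injective.eq_iff, ← mul_inv_eq_one, ← QuotientGroup.mk_inv,
      ← QuotientGroup.mk_mul, QuotientGroup.eq_one_iff, Subgroup.mem_subgroupOf,
      Subgroup.coe_mul, MulAut.conjNormal_apply, Subgroup.coe_inv]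
  have hker : r.ker = D := by
    ext g
    rw [MonoidHom.mem_ker]
    constructor
    · intro hg x hx
      refine (heq g ⟨x, hx⟩).mp ?_
      rw [hg]; rfl
    · intro hg
      refine AddMonoidHom.ext fun v => ?_
      obtain ⟨w, rfl⟩ := hsurj v
      exact (heq g w).mpr (hg w w.2)
  have hV2 : ∀ v : V, 2 • v = 0 := fun v => by
    obtain ⟨w, rfl⟩ := hsurj v
    change Additive.ofMul ((w : X ⧸ Y.subgroupOf X) ^ 2) = Additive.ofMul 1
    rw [← QuotientGroup.mk_pow, (QuotientGroup.eq_one_iff _).mpr]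
    rw [Subgroup.mem_subgroupOf, Subgroup.coe_pow]
    exact hsec.bot_le (hsq _ (hsec.le w.2))
  obtain ⟨M', i1, i2, i3, L, hL⟩ := ScalarExt.exists_rep 2 V hV2
  let ρ' : H₀ ⧸ D →* Module.End k₂ M' := QuotientGroup.lift D (L.toMonoidHom.comp r) fun g hg =>
    MonoidHom.mem_ker.mpr (by
      change L (r g) = 1
      rw [MonoidHom.mem_ker.mp (hker.ge hg), map_one])
  have hρ' : Function.Injective ρ' := by
    refine (injective_iff_map_eq_one ρ').mpr fun c hc => ?_
    obtain ⟨g, rfl⟩ := QuotientGroup.mk_surjective c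
    exact (QuotientGroup.eq_one_iff g).mpr
      (hker.le (MonoidHom.mem_ker.mpr (hL (hc.trans (map_one L).symm))))
  haveI : Group.IsSolvable (H₀ ⧸ D) :=
    Group.isSolvable_of_surjective (f := QuotientGroup.mk' D) (QuotientGroup.mk'_surjective D)
  -- smaller
  have hcard : Nat.card (H₀ ⧸ D) < Nat.card H := by
    refine lt_of_lt_of_le ?_ (Subgroup.card_le_card_group H₀)
    rw [Subgroup.card_eq_card_quotient_mul_card_subgroup D]
    refine lt_mul_of_one_lt_right Nat.card_pos ((Subgroup.one_lt_card_iff_ne_bot D).mpr fun h => ?_)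
    refine (bot_le.trans_lt hsec.lt).ne' (eq_bot_iff.mpr fun x hx => ?_)
    exact h ▸ hQD (hsec.le hx)
  -- trivial core
  have hcore : pCore 2 (H₀ ⧸ D) = ⊥ := by
    set P' := pCore 2 (H₀ ⧸ D) with hP'
    let r' : H₀ ⧸ D →* AddMonoid.End V := QuotientGroup.lift D r hker.ge
    letI : MulAction P' V := MulAction.compHom V (r'.comp P'.subtype)
    have hdvd : 2 ∣ Nat.card V := by
      have hlt : 1 < Nat.card V := by
        change 1 < (Y.subgroupOf X).index
        refine Subgroup.one_lt_index_of_ne_top fun h => hsec.lt.not_ge ?_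
        exact Subgroup.subgroupOf_eq_top.mp h
      have hpg : IsPGroup 2 (X ⧸ Y.subgroupOf X) := fun c => ⟨1, by
        rw [pow_one]
        exact congrArg Additive.toMul (hV2 (Additive.ofMul c))⟩
      obtain ⟨m, hm⟩ := IsPGroup.iff_card.mp hpg
      rw [show Nat.card V = 2 ^ m from hm] at hlt ⊢
      exact dvd_pow_self 2 fun h0 => by rw [h0] at hlt; norm_num at hlt
    have h0 : (0 : V) ∈ MulAction.fixedPoints P' V := fun t => map_zero (r' (t : H₀ ⧸ D))
    obtain ⟨v, hv, hv0⟩ :=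
      (PSolvable.isPGroup_pCore (p := 2) (G := H₀ ⧸ D)).exists_fixed_point_of_prime_dvd_card_of_fixed_point
        V hdvd h0
    obtain ⟨x, rfl⟩ := hsurj v
    set T := P'.comap (QuotientGroup.mk' D) with hT
    haveI : P'.Normal := PSolvable.pCore_normal'
    let W : Subgroup H₀ :=
      { carrier := {w | w ∈ X ∧ ∀ t ∈ T, t * w * t⁻¹ * w⁻¹ ∈ Y}
        one_mem' := ⟨one_mem _, fun t _ => by simp⟩
        mul_mem' := fun {a b} ha hb => ⟨mul_mem ha.1 hb.1, fun t ht => by
          rw [show t * (a * b) * t⁻¹ * (a * b)⁻¹ =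
            (t * a * t⁻¹ * a⁻¹) * (a * (t * b * t⁻¹ * b⁻¹) * a⁻¹) by group]
          exact mul_mem (ha.2 t ht) ((inferInstance : Y.Normal).conj_mem _ (hb.2 t ht) a)⟩
        inv_mem' := fun {a} ha => ⟨inv_mem ha.1, fun t ht => by
          rw [show t * a⁻¹ * t⁻¹ * a⁻¹⁻¹ = a⁻¹ * (t * a * t⁻¹ * a⁻¹)⁻¹ * a⁻¹⁻¹ by group]
          exact (inferInstance : Y.Normal).conj_mem _ (inv_mem (ha.2 t ht)) _⟩ }
    have hWn : W.Normal := ⟨fun w hw g => ⟨(inferInstance : X.Normal).conj_mem w hw.1 g, fun t ht => by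
      have ht' : g⁻¹ * t * g⁻¹⁻¹ ∈ T := (inferInstance : T.Normal).conj_mem t ht g⁻¹
      rw [show t * (g * w * g⁻¹) * t⁻¹ * (g * w * g⁻¹)⁻¹ = g * ((g⁻¹ * t * g⁻¹⁻¹) * w *
        (g⁻¹ * t * g⁻¹⁻¹)⁻¹ * w⁻¹) * g⁻¹ by group]
      exact (inferInstance : Y.Normal).conj_mem _ (hw.2 _ ht') g⟩⟩
    have hWX : W = X := by
      refine (hsec.irr W hWn (fun y hy => ⟨hsec.lt.le hy, fun t _ => ?_⟩) fun w hw => hw.1).resolve_left
        fun hWY => ?_
      · exact mul_mem ((inferInstance : Y.Normal).conj_mem y hy t) (inv_mem hy)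
      · have hxW : (x : H₀) ∈ W := ⟨x.2, fun t ht => (heq t x).mp (hv ⟨_, ht⟩)⟩
        refine hv0 ?_
        rw [hWY] at hxW
        symm
        exact congrArg Additive.ofMul ((QuotientGroup.eq_one_iff x).mpr hxW)
    have hTD : T ≤ D := fun t ht x hx => (hWX.ge hx).2 t ht
    rw [eq_bot_iff]
    intro c hc
    obtain ⟨g, rfl⟩ := QuotientGroup.mk_surjective c
    exact Subgroup.mem_bot.mpr ((QuotientGroup.eq_one_iff g).mpr (hTD hc))
  -- the exponent condition one step below
  have hexp' : SumHyp ρ' (e - 1) := by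
    rintro y ⟨a, ha⟩
    obtain ⟨g, ⟨b, hb⟩, rfl⟩ := Cfsg.Agent.S3801.exists_lift D ha
    have hb' : (g : H) ^ 2 ^ b = 1 := congrArg Subtype.val hb
    refine ⟨?_, ?_⟩
    · rw [← QuotientGroup.mk_pow, QuotientGroup.eq_one_iff]
      refine hQD ?_
      rw [hQ₀, Subgroup.mem_subgroupOf, Subgroup.coe_pow]
      exact hS.top_mem ⟨g, g.2, ⟨b, hb'⟩, rfl⟩
    have hsum : ∑ i ∈ Finset.range (2 ^ (e - 1)), r (g ^ i) = 0 := by
      refine AddMonoidHom.ext fun v => ?_
      obtain ⟨w, rfl⟩ := hsurj v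
      have hm : ∀ n, ((w : H₀) * g) ^ n * (g ^ n)⁻¹ ∈ X := fun n =>
        twist_mem w.2 (fun v hv => (inferInstance : X.Normal).conj_mem v hv g) n
      have hprod : ∀ n, (∑ i ∈ Finset.range n, r (g ^ i)) (Additive.ofMul (w : X ⧸ Y.subgroupOf X)) =
          Additive.ofMul ((⟨_, hm n⟩ : X) : X ⧸ Y.subgroupOf X) := by
        intro n
        induction n with
        | zero =>
          rw [Finset.sum_range_zero, show (⟨_, hm 0⟩ : X) = 1 from Subtype.ext (by simp)]
          rfl
        | succ n ihn =>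
          rw [Finset.sum_range_succ]
          change (∑ i ∈ Finset.range n, r (g ^ i)) _ + r (g ^ n) _ = _
          rw [ihn, hr, ← ofMul_mul, ← QuotientGroup.mk_mul]
          refine congrArg Additive.ofMul (congrArg _ (Subtype.ext ?_))
          rw [Subgroup.coe_mul, MulAut.conjNormal_apply]
          change ((w : H₀) * g) ^ n * (g ^ n)⁻¹ * (g ^ n * (w : H₀) * (g ^ n)⁻¹) =
            ((w : H₀) * g) ^ (n + 1) * (g ^ (n + 1))⁻¹
          rw [pow_succ, pow_succ]
          group
      refine (hprod _).trans ?_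
      refine congrArg Additive.ofMul ((QuotientGroup.eq_one_iff _).mpr ?_)
      rw [Subgroup.mem_subgroupOf]
      -- transfer the section to `H`
      set XH := X.map H₀.subtype with hXH
      set YH := Y.map H₀.subtype with hYH
      have hinv : ∀ (Z : Subgroup H₀), Z.Normal → Inv H₀ (Z.map H₀.subtype) := by
        rintro Z hZ h hh _ ⟨z, hz, rfl⟩
        exact ⟨_, hZ.conj_mem z hz ⟨h, hh⟩, rfl⟩
      have hXQ : XH ≤ Q := by
        rintro _ ⟨z, hz, rfl⟩
        exact hsec.le hz
      have hirr : ∀ W : Subgroup H, YH ≤ W → W ≤ XH → Inv H₀ W → W = YH ∨ W = XH := by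
        intro W hYW hWX hW
        have hW0 : W ≤ H₀ := hWX.trans (Subgroup.map_subtype_le X)
        have hWn : (W.subgroupOf H₀).Normal := ⟨fun z hz g => hW g g.2 _ hz⟩
        have hmap : (W.subgroupOf H₀).map H₀.subtype = W := by
          rw [Subgroup.subgroupOf_map_subtype, inf_eq_left.mpr hW0]
        refine (hsec.irr _ hWn (fun z hz => hYW ⟨z, hz, rfl⟩) fun z hz => ?_).imp
          (fun h => by rw [hYH, ← h, hmap]) fun h => by rw [hXH, ← h, hmap]
        obtain ⟨z', hz', hzz⟩ := hWX hz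
        rwa [← Subtype.ext hzz]
      have hkey := prod_mem ρ hρ hexp F hS XH YH hXQ (Subgroup.map_mono hsec.lt.le)
        (hinv X inferInstance) (hinv Y inferInstance) hirr g.2 ⟨b, hb'⟩
        (x := (w : H)) ⟨w, w.2, rfl⟩
      obtain ⟨z, hz, hzz⟩ := hkey
      rwa [show z = ((w : H₀) * g) ^ 2 ^ (e - 1) * (g ^ 2 ^ (e - 1))⁻¹ from Subtype.ext (by
        simpa using hzz)] at hz
    have h2 := congrArg L hsum
    rw [map_sum, map_zero] at h2
    rw [← h2]
    refine Finset.sum_congr rfl fun i _ => ?_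
    rw [map_pow, map_pow]
    rfl
  have he := hS.two_le
  have h := ih (H₀ ⧸ D) hcard hcore M' ρ' hρ' (e - 1) (by omega) hexp'
  rwa [show e - 1 - 1 = e - 2 by omega] at h

/-- The inductive step. -/
theorem bound (n : ℕ) : ∀ (H : Type u) [Group H] [Finite H] [Group.IsSolvable H],
    Nat.card H = n → Bound H := by
  induction n using Nat.strong_induction_on with
  | _ n ihn =>
  intro H _ _ _ hn hO M _ _ _ ρ hρ e he hexp
  classical
  haveI : Fact (Nat.Prime 2) := ⟨Nat.prime_two⟩
  haveI : CharP k₂ 2 := charP_of_injective_algebraMap (algebraMap (ZMod 2) k₂).injective 2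
  rcases Nat.lt_or_ge e 2 with he2 | he2
  · have he1 : e = 1 := by omega
    subst he1
    exact bound_one M ρ hρ hexp
  set K := pPrimePCore 2 H with hK
  set S : Sylow 2 K := default
  set Q := (S : Subgroup K).map K.subtype with hQ
  set H₀ := Subgroup.normalizer (Q : Set H) with hH₀
  have hQK : Q ≤ K := Subgroup.map_subtype_le _
  have hQp : IsPGroup 2 Q := S.isPGroup'.map _
  have hS : Setting e H₀ Q :=
    { two_le := he2
      le := Subgroup.le_normalizer
      conj_mem := fun h hh x hx => (Subgroup.mem_normalizer_iff.mp hh x).mp hx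
      isPGroup := hQp
      top_mem := by
        rintro _ ⟨y, hy, hy2, rfl⟩
        set s := y ^ 2 ^ (e - 1) with hs
        have hsK : s ∈ K := PlaneExponent.pow_mem_pPrimePCore hO ρ hρ e he2 hexp y hy2
        have hsp : IsPGroup 2 (Subgroup.zpowers s) := by
          obtain ⟨i, -, hi⟩ := (Nat.dvd_prime_pow Nat.prime_two).mp
            (orderOf_dvd_of_pow_eq_one (show s ^ 2 ^ 1 = 1 by
              rw [hs, ← pow_mul, ← pow_add, show e - 1 + 1 = e by omega, (hexp y hy2).1]))
          exact IsPGroup.of_card (n := i) (by rw [Nat.card_zpowers, hi])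
        have hsup := IsPGroup.to_sup_of_normal_left' hQp hsp
          (Subgroup.zpowers_le.mpr (pow_mem hy _))
        have hle : (S : Subgroup K) = (Q ⊔ Subgroup.zpowers s).subgroupOf K :=
          (S.is_maximal' (hsup.comap_of_injective K.subtype K.subtype_injective)
            fun z hz => Subgroup.mem_sup_left (⟨z, hz, rfl⟩ : (z : H) ∈ Q)).symm
        refine ⟨⟨s, hsK⟩, ?_, rfl⟩
        rw [hle]
        exact Subgroup.mem_sup_right (Subgroup.mem_zpowers s) }
  obtain ⟨F⟩ := exists_frame hO ρ hρ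
  haveI : Group.IsSolvable H₀ := inferInstance
  -- the Frattini subgroup of `Q`
  set Q₀ := Q.subgroupOf H₀ with hQ₀
  haveI : Q₀.Normal := ⟨fun x hx g => hS.conj_mem g g.2 _ hx⟩
  set Φ := (frattini Q₀).map Q₀.subtype with hΦ
  haveI : Φ.Normal := ConjAct.normal_of_characteristic_of_normal
  have hQ₀p : IsPGroup 2 Q₀ := hQp.comap_of_injective H₀.subtype H₀.subtype_injective
  have hel := Cfsg.Agent.Lib.PGroups.frattiniQuotient_elemAb hQ₀p
  have hsq : ∀ x ∈ Q₀, x ^ 2 ∈ Φ := fun x hx => by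
    refine ⟨⟨x, hx⟩ ^ 2, ?_, rfl⟩
    rw [SetLike.mem_coe, ← QuotientGroup.eq_one_iff, QuotientGroup.mk_pow]
    exact hel.2 _ (Subgroup.mem_top _)
  have hcomm : ∀ x ∈ Q₀, ∀ y ∈ Q₀, x * y * x⁻¹ * y⁻¹ ∈ Φ := fun x hx y hy => by
    refine ⟨⟨x, hx⟩ * ⟨y, hy⟩ * (⟨x, hx⟩ : Q₀)⁻¹ * (⟨y, hy⟩ : Q₀)⁻¹, ?_, rfl⟩
    rw [SetLike.mem_coe, ← QuotientGroup.eq_one_iff, QuotientGroup.mk_mul, QuotientGroup.mk_mul,
      QuotientGroup.mk_mul, QuotientGroup.mk_inv, QuotientGroup.mk_inv, mul_inv_eq_one,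
      mul_inv_eq_iff_eq_mul]
    exact congrArg Subtype.val (hel.1.is_comm.comm ⟨_, Subgroup.mem_top _⟩ ⟨_, Subgroup.mem_top _⟩)
  have hΦQ : Φ ≤ Q₀ := Subgroup.map_subtype_le _
  rw [show e - 1 = (e - 2) + 1 by omega]
  refine PSolvable.pLengthLE_succ_of_quotient (N := K) PSolvable.upperPSeries_two.ge ?_
  rcases dichotomy Φ Q₀ hsq (e - 2) Q₀ hΦQ le_rfl with ⟨X, Y, hXn, hYn, hsec, hbad⟩ |
    ⟨C, hCn, hC, hCQ⟩
  · exact absurd (section_bound ρ hρ hexp F hS (fun K' _ _ _ hK' => ihn _ (hn ▸ hK') K' rfl)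
      Φ hsq hcomm X Y hsec) hbad
  haveI := hCn
  set f : H₀ →* H ⧸ K := (QuotientGroup.mk' K).comp H₀.subtype with hf
  have hfs : Function.Surjective f := by
    intro c
    obtain ⟨g, rfl⟩ := QuotientGroup.mk_surjective c
    have hg : g ∈ H₀ ⊔ K := by
      rw [hH₀, hQ, Sylow.normalizer_sup_eq_top S]
      exact Subgroup.mem_top g
    obtain ⟨h, hh, z, hz, rfl⟩ := Subgroup.mem_sup_of_normal_right.mp hg
    refine ⟨⟨h, hh⟩, ?_⟩
    change (h : H ⧸ K) = ((h * z : H) : H ⧸ K)
    rw [QuotientGroup.eq, inv_mul_cancel_left]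
    exact hz
  have hodd : ∀ c ∈ C, Odd (orderOf c) → (c : H) ∈ K := by
    intro c hc hodd
    set O := pPrimeCore 2 H with hO2
    have hcent : Subgroup.zpowers c ≤ Subgroup.centralizer (Q₀ : Set H₀) := by
      refine Coprime.le_centralizer_of_frattini ?_ ?_ fun a ha x hx => ?_
      · rw [Subgroup.normalizer_eq_top_iff.mpr inferInstance]; exact le_top
      · rw [Nat.card_zpowers]
        obtain ⟨m, hm⟩ := IsPGroup.iff_card.mp (hQ₀p.to_subgroup (frattini Q₀))
        rw [hm]
        exact Nat.Coprime.pow_right _ (Nat.coprime_two_right.mpr hodd)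
      · obtain ⟨i, rfl⟩ := Subgroup.mem_zpowers_iff.mp ha
        exact hCQ _ (Subgroup.zpow_mem _ hc i) (hodd.of_dvd_nat
          (orderOf_dvd_of_pow_eq_one (by rw [← zpow_natCast, ← zpow_mul, mul_comm, zpow_mul,
            zpow_natCast, pow_orderOf_eq_one, one_zpow]))) x hx
    set π := QuotientGroup.mk' O
    have himg : π (c : H) ∈ pCore 2 (H ⧸ O) := by
      haveI : Group.IsSolvable (H ⧸ O) :=
        Group.isSolvable_of_surjective (f := π) (QuotientGroup.mk'_surjective O)
      refine PSolvable.centralizer_pCore_le PSolvable.isPSolvable_of_isSolvable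
        (PSolvable.pPrimeCore_quotient_eq_bot O rfl) ?_
      rw [Subgroup.mem_centralizer_iff]
      intro q hq
      rw [SetLike.mem_coe, ← PSolvable.map_sylow_pPrimePCore S] at hq
      obtain ⟨x, hx, rfl⟩ := hq
      have hxQ : x ∈ Q := hx
      rw [← map_mul, ← map_mul]
      congr 1
      exact congrArg Subtype.val (Subgroup.mem_centralizer_iff.mp (hcent (Subgroup.mem_zpowers c))
        ⟨x, hS.le hxQ⟩ hxQ)
    exact himg
  have hCf : C ≤ f.ker := by
    haveI : (C.map f).Normal := Subgroup.Normal.map inferInstance f hfs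
    have hp : IsPGroup 2 (C.map f) := by
      rintro ⟨_, c, hc, rfl⟩
      obtain ⟨a, m, hm, ham⟩ :=
        Nat.exists_eq_pow_mul_and_not_dvd (orderOf_pos c).ne' 2 (by norm_num)
      refine ⟨a, Subtype.ext ?_⟩
      change f c ^ 2 ^ a = 1
      rw [← map_pow]
      refine (QuotientGroup.eq_one_iff _).mpr (hodd _ (pow_mem hc _) ?_)
      exact (Nat.odd_iff.mpr (by omega) : Odd m).of_dvd_nat (orderOf_dvd_of_pow_eq_one (by
        rw [← pow_mul, ← ham, pow_orderOf_eq_one]))
    have h := PSolvable.le_pCore (p := 2) inferInstance hp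
    rw [show pCore 2 (H ⧸ K) = ⊥ by
      have h0 := PSolvable.pCore_quotient_upperPSeries (p := 2) (G := H) 0
      have h1 := Cores.map_pCore_equiv (p := 2)
        (QuotientGroup.quotientMulEquivOfEq (PSolvable.upperPSeries_two (p := 2) (G := H)))
      rw [h0, Subgroup.map_bot] at h1
      exact h1.symm, le_bot_iff, Subgroup.map_eq_bot_iff] at h
    exact h
  exact PSolvable.pLengthLE_of_surjective (QuotientGroup.lift C f hCf)
    (fun c => by obtain ⟨g, rfl⟩ := hfs c; exact ⟨g, rfl⟩) hC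

/-- A group whose normal series has `2`-group and odd factors is soluble. -/
theorem isSolvable_of_isPSolvable_two {G : Type u} [Group G] [Finite G] (h : IsPSolvable 2 G) :
    Group.IsSolvable G := by
  haveI : Fact (Nat.Prime 2) := ⟨Nat.prime_two⟩
  obtain ⟨n, A, hA0, hAn, hmono, hnorm, hstep⟩ := h
  suffices ∀ i, Group.IsSolvable (A i) by
    haveI := this (Fin.last n)
    rw [hAn] at this
    exact Group.isSolvable_of_surjective (f := (⊤ : Subgroup G).subtype)
      (fun g => ⟨⟨g, Subgroup.mem_top g⟩, rfl⟩)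
  intro i
  induction i using Fin.induction with
  | zero => rw [hA0]; infer_instance
  | succ i ih =>
    haveI := ih
    haveI := hnorm i.castSucc
    have hle : A i.castSucc ≤ A i.succ := hmono (Fin.castSucc_le_succ i)
    set B := (A i.castSucc).subgroupOf (A i.succ)
    haveI : Group.IsSolvable B :=
      Group.isSolvable_of_surjective (f := (Subgroup.subgroupOfEquivOfLe hle).symm.toMonoidHom)
        (Subgroup.subgroupOfEquivOfLe hle).symm.surjective
    haveI : Group.IsSolvable (↥(A i.succ) ⧸ B) := by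
      rcases hstep i with ⟨m, hm⟩ | hm
      · haveI := (IsPGroup.of_card (p := 2) (G := ↥(A i.succ) ⧸ B) (n := m) hm).isNilpotent
        infer_instance
      · exact OddOrder.FeitThompson.isSolvable_of_odd_card (Nat.coprime_two_right.mp hm)
    exact Group.isSolvable_of_ker_le_range B.subtype (QuotientGroup.mk' B) (by simp)

end Cfsg.Agent.Lib.TwoLengthExp
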